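import Cfsg.Agent.Co1T.M3
import Cfsg.Agent.Co1T.CI
import Cfsg.Agent.Co1T.CS
import Cfsg.Agent.SporD.LemD
import Cfsg.Agent.ZC.PW
import Cfsg.Agent.Leech.Simple

/-! Recognition of `Co₁` by the centraliser `2^{1+8}.Ω⁺(8,2)` of an involution that is fused in `Q`
(`stepD`, `main_fr`, `main`). -/

set_option autoImplicit false
set_option linter.unusedSectionVars false

namespace Cfsg.Agent.Co1T

open Subgroup Cfsg.Agent.BG Cfsg.Agent.LES Cfsg.Agent.Co1A MulAction

variable {G : Type*} [Group G] [Finite G] {z : G} {Q : Subgroup G}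

theorem conj_map_iff {j : CC →* G} {a b : CC} {g : G} (e : g * j a * g⁻¹ = j b) (c : CC) :
    ((j c)⁻¹ * g) * j a * ((j c)⁻¹ * g)⁻¹ = j (c⁻¹ * b * c) := by
  rw [map_mul, map_mul, map_inv, ← e]; group

theorem stepD {j : CC →* G} (hl : LE Q (j z0)) (hC : C1[j z0] ≤ j.range) (hN : N[V0.map j] ≤ j.range)
    (ht : ¬ IsConj (j z0) (j t0)) (hs : ∀ x, IsConj (j z0) x → ¬ 13 ∣ #C1[x]) : Function.Bijective j := by
  have := Leech.simple_Co1
  have inj : Function.Injective j := (MonoidHom.ker_eq_bot_iff j).1 ((j.normal_ker.eq_bot_or_eq_top).resolve_right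
    fun e => hl.z1 (show z0 ∈ j.ker from e ▸ mem_top _))
  have oj := orderOf_injective j inj
  have h2 : ∀ g : G, g * j z0 * g⁻¹ ∈ j.range → g ∈ j.range := fun g ⟨x, e⟩ => by
    have cx : IsConj (j z0) (j x) := isConj_iff.2 ⟨g, e.symm⟩
    rcases inv_cases1 x (by rw [← oj, e, ← ord_z0, ← oj]; exact (MulAut.conj g).orderOf_eq _) with c | c | c
    · obtain ⟨d, rfl⟩ := isConj_iff.1 c
      have := conj_map_iff e.symm d
      rw [show d⁻¹ * (d * z0 * d⁻¹) * d = z0 by group] at this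
      exact (j.range.mul_mem_cancel_left (inv_mem ⟨d, rfl⟩)).1 (hC (mem_cent1.2 (cj_eq_iff_comm.1 this)))
    · exact absurd (cx.trans (j.map_isConj c).symm) ht
    · obtain ⟨h, o, k⟩ := ex13
      refine absurd ?_ (hs _ (cx.trans (j.map_isConj c).symm))
      rw [← o, ← oj]
      exact orderOf_dvd_natCard _ (mem_cent1.2 (by rw [← map_mul, k, map_mul]))
  have nN : ∀ x : CC, j x ∈ N[V0.map j] ↔ x ∈ N0 := fun x => by
    rw [← norm_V0, mem_norm, mem_norm, ← (map_injective inj).eq_iff, cj_def, cj_def, map_map, map_map]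
    exact iff_of_eq (by congr 2; ext; simp)
  have eN : N[V0.map j] = N0.map j := le_antisymm (fun n hn => by
    obtain ⟨x, rfl⟩ := hN hn
    exact ⟨x, (nN x).1 hn, rfl⟩) fun _ ⟨x, hx, e⟩ => e ▸ (nN x).2 hx
  have cV : #(V0.map j) = 2 ^ 11 := by rw [card_map_of_injective inj, card_V0]
  have sq : ∀ v ∈ V0.map j, v * v = 1 := fun _ ⟨v, hv, e⟩ => by rw [← e, ← map_mul, V0_sq hv, map_one]
  have D : ∀ v ∈ V0.map j, v ≠ 1 → C1[v] ≤ j.range := fun v => SporD.lemD {x | IsConj (j z0) x} (a := 16) sq hN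
    (fun y hy hV g hg => by
      obtain ⟨c, rfl⟩ := isConj_iff.1 hy
      have := h2 (g * c) (by simpa only [mul_inv_rev, mul_assoc] using hg)
      exact (j.range.mul_mem_cancel_right (h2 c (map_le_range _ _ hV))).1 this)
    (fun g hg => by
      have le : cj g (V0.map j) ≤ N0.map j := fun _ ⟨v, hv, e⟩ => e ▸ eN ▸ hg v hv
      have e := weak_V0 (A := (cj g (V0.map j)).comap j) (fun x hx => (mem_map_iff_mem inj).1 (le hx))
        (fun a ⟨b, hb, e⟩ => inj (by rw [map_mul, ← e, ← map_mul, sq b hb, map_one, map_one]))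
        (by rw [← card_map_of_injective inj, map_comap_eq_self (le.trans (map_le_range _ _)), card_cj, cV])
      rw [mem_norm, ← map_comap_eq_self (le.trans (map_le_range _ _)), e])
    (by
      rintro _ ⟨w, hw, rfl⟩ w1 hZ _ ⟨x, rfl⟩ c
      rcases V0_orb w hw with rfl | ⟨k, hk, rfl⟩ | ⟨k, hk, rfl⟩
      · exact absurd (map_one j) w1
      · exact absurd (j.map_isConj (isConj_iff.2 ⟨k, rfl⟩)) hZ
      · have : x ∈ C1[k * t0 * k⁻¹] := mem_cent1.2 (inj (by simpa only [map_mul] using c.eq))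
        rw [C1_conj] at this
        exact (nN x).2 (cj_le_of_mem hk cent_t0 this))
    (fun A hA hZ => by
      rw [← map_comap_eq_self (hA.trans (map_le_range _ _)), card_map_of_injective inj]
      exact h4 (fun x hx => (mem_map_iff_mem inj).1 (hA hx)) fun w hw c => hZ _ hw (j.map_isConj c))
    (by rw [cV]; decide)
    (fun k m k1 k2 e => by
      rw [eN, card_map_of_injective inj, card_N0]
      rw [cV] at e
      obtain rfl : m = 2 ^ 11 / k := by rw [← e, Nat.mul_div_cancel_left _ (by omega)]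
      revert e; interval_cases k <;> decide)
  have P := ZD.pw_of_class (H := j.range) (by rw [oj, ord_z0]) ⟨z0, rfl⟩ (LE_sylow hl) h2 fun g c ne => by
    obtain ⟨x, rfl⟩ := h2 g (hC (mem_cent1.2 c.symm))
    rw [← map_inv, ← map_mul, ← map_mul] at c ne ⊢
    have k : ∀ v ∈ V0, orderOf v = 2 → IsConj v (z0 * (x * z0 * x⁻¹)) → C1[j z0 * j (x * z0 * x⁻¹)] ≤ j.range :=
      fun v hv o c => by
        obtain ⟨c, e⟩ := isConj_iff.1 c
        rw [← map_mul, ← e, map_mul, map_mul, map_inv, C1_conj]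
        exact cj_le_of_mem ⟨c, rfl⟩ (D _ ⟨v, hv, rfl⟩ fun e => by simp [(map_eq_one_iff j inj).1 e] at o)
    exact (prod_z0 (.refl _) (isConj_iff.2 ⟨x, rfl⟩) (inj (by simpa only [map_mul] using c.eq))
      fun e => ne (by rw [← e])).elim (k _ z0_V ord_z0) (k _ t0_V ord_t0)
  refine ⟨inj, MonoidHom.range_eq_top.1 (by_contra fun ne => ?_)⟩
  obtain ⟨g, hg⟩ : ∃ g, g ∉ j.range := by simpa only [eq_top_iff', not_forall] using ne
  have C := P.pc (a := ((1 : G) : G ⧸ j.range)) (b := g) (fun e => hg (by simpa using QuotientGroup.eq.1 e))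
    fun d o hd => by
      have m : d ∈ j.range.normalCore := by rw [normalCore_eq_ker]; exact Equiv.ext hd
      obtain ⟨y, rfl⟩ := j.range.normalCore_le m
      rcases (normalCore_normal j.range |>.comap j).eq_bot_or_eq_top with e | e
      · rw [oj, mem_bot.1 (e.le m), orderOf_one] at o; cases o
      · exact absurd (h2 g (normalCore_le _ ((normalCore_normal _).conj_mem _ (e.ge (mem_top z0)) g))) hg
  obtain ⟨y, hy, c, n, c'⟩ := ex_z'
  have := C.mul _ (.refl _) _ (j.map_isConj c) (Commute.map (V0_comm z0_V hy) j) fun e => n (inj e).symm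
  exact ht (IsConj.trans this (by rw [← map_mul]; exact j.map_isConj c'))

theorem main_fr {p : G → W} {μ : C1[z] →* O8} (F : Fr z Q p μ) (hf : ∃ u ∈ Q, IsConj z u ∧ u ≠ z) :
    ∃ e : G ≃* CC, e z = z0 := by
  obtain ⟨φ, hφ, hC, hz, hQ⟩ := exists_phi F hf
  have uQ := hQ (iV u0_V) u0_Q
  have n1 : φ (iV u0_V) ≠ z := fun e => u0_ne (congrArg Subtype.val (hφ (e.trans hz.symm)))
  obtain ⟨g, e⟩ := isConj_iff.1 (F.fused hf uQ ((F.sq uQ).2 (VV_sq _ ⟨_, u0_V, rfl⟩)) fun e => by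
    rcases (F.p0 uQ).1 e with e | e
    · exact absurd (congrArg (fun x : H0 => orderOf x.1) ((map_eq_one_iff _ hφ).1 e)) (by simp [ord_u0])
    · exact n1 e)
  obtain ⟨n, h1, h2, -⟩ := swap (F.le.pair (by rw [F.card]; decide) (e ▸ uQ) (e ▸ n1))
  rw [e] at h1 h2
  have hN := fun k => ind_all hφ hC hz ⟨n, h1, h2⟩ (k := k)
  obtain ⟨j, j1, j2, j3, j4, j5⟩ := stepC φ hφ (by rw [hz, hC]) (fun _ => ind_norm hφ hC hz hN) hN
  rw [hz] at j4
  have := stepD (j := j) (j4 ▸ F.le) (by rwa [j4, ← hC]) (by rwa [j5])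
    (by rw [j4, j3 (iV t0_V) t0_V]; exact not_conj_t hφ hC hz hN)
    fun x hx => by rw [card_cent hφ hC hz (j4 ▸ hx)]; decide
  exact ⟨(MulEquiv.ofBijective j this).symm, by rw [MulEquiv.symm_apply_eq]; exact j4.symm⟩

theorem main {Q : Subgroup C1[z]} [Q.Normal] (hs : IsExtraspecialCentralizerSetting z Q 4)
    (e : C1[z] ⧸ Q ≃* Omega (ZMod 2) (quadFormPlus 4 (ZMod 2))) : ∃ e : G ≃* CC, e z = z0 := by
  obtain ⟨⟨p, μ, F⟩, hf⟩ := fr_of hs e
  exact main_fr F hf

end Cfsg.Agent.Co1T
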