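import Cfsg.Agent.Geom.Family
import Cfsg.Agent.Geom.OBridge
import Cfsg.Agent.Geom.Classify
import Cfsg.Agent.Chev.CoxE8
import Cfsg.Agent.Chev.PoinE8

/-! The quadratic space `W = O⁺(8,2)` by bit codes (`cv`, `qN`, `bN`), small geometric facts, the `E₈` reflections `sg`
and `cox_split`: a central extension of `Ω⁺(8,2)` by an involution splits when the products of two commuting
reflections lift to involutions and the lifts of `eich e₁ e₂`, `eich e₃ e₄` commute (Coxeter presentation of `W(E₈)`). -/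

set_option autoImplicit false
set_option maxRecDepth 100000
set_option synthInstance.maxSize 4096

namespace Cfsg.Agent.Co1A

open Cfsg.Agent.Geom Cfsg.Agent.Geom.Formed QuadraticMap Subgroup Module

abbrev W : Type := Fin 4 ⊕ Fin 4 → ZMod 2
noncomputable abbrev S : QuadraticForm (ZMod 2) W := quadPlus (ZMod 2) 4
abbrev O8 : Type := OG S
noncomputable abbrev Om : Subgroup O8 := commutator O8
noncomputable abbrev B (a b : W) : ZMod 2 := polar S a b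

theorem z2 (x : ZMod 2) : x = 0 ∨ x = 1 := by revert x; decide
theorem z2_ne {x : ZMod 2} (h : x ≠ 0) : x = 1 := (z2 x).resolve_left h
theorem z2_add (x : ZMod 2) : x + x = 0 := by revert x; decide
theorem W_add (v : W) : v + v = 0 := funext fun i => z2_add (v i)
theorem W_neg (v : W) : -v = v := neg_eq_of_add_eq_zero_left (W_add v)
theorem W_sub (v w : W) : v - w = v + w := by rw [sub_eq_add_neg, W_neg]
theorem nd : (ofQuad S).Nondeg := quadPlus_nondeg (ZMod 2) 4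
theorem rk : finrank (ZMod 2) W = 8 := by simp
theorem nex : NotExc S := notExc_of_finrank (by rw [rk]; decide)
theorem B_comm (a b : W) : B a b = B b a := polar_comm _ _ _
theorem B_add (a b c : W) : B a (b + c) = B a b + B a c := polar_add_right _ _ _ _
theorem B_add' (a b c : W) : B (a + b) c = B a c + B b c := polar_add_left _ _ _ _
theorem B_self (a : W) : B a a = 0 := by rw [B, polar_self', two_mul, z2_add]
theorem S_add (a b : W) : S (a + b) = S a + S b + B a b := quad_add _ _ _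

theorem card_O8 : Nat.card O8 = 348364800 := by
  rw [card_isom_plus 3 nd (quadPlus_wittIndex _ _) rk, Nat.card_zmod]; decide
instance finO8 : Finite O8 := Nat.finite_of_card_ne_zero (by rw [card_O8]; decide)
theorem index_Om : Om.index = 2 := index_commutator_even nd nex rfl (by rw [rk]; decide)
theorem card_Om : Nat.card Om = 174182400 := by
  have := Om.card_mul_index
  rw [index_Om, card_O8] at this; omega
theorem mem_Om {g : O8} : g ∈ Om ↔ dick g = 1 := mem_commutator_iff_of_two nd nex rfl g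
theorem refl_notMem {v : W} (h : S v = 1) : refl S v ∉ Om := by
  rw [mem_Om, dick_refl nd (by rw [h]; decide)]; decide
theorem refl_mul_mem {u v : W} (hu : S u = 1) (hv : S v = 1) : refl S u * refl S v ∈ Om := by
  rw [mem_Om, dick_refl_mul nd (by rw [hu]; decide), dick_refl nd (by rw [hv]; decide)]; decide
theorem mem_or {v : W} (h : S v = 1) (g : O8) : g ∈ Om ∨ refl S v * g ∈ Om := by
  rw [mem_Om, mem_Om, dick_refl_mul nd (by rw [h]; decide)]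
  rcases Int.units_eq_one_or (dick g) with e | e <;> simp [e]
theorem refl_ap {v : W} (h : S v = 1) (x : W) : (refl S v).1 x = x + B v x • v := by
  rw [refl_apply, h, inv_one, one_mul, W_sub]

def cv (n : ℕ) : W := fun i => if n.testBit (Sum.elim (fun j : Fin 4 => j.val) (fun j => j.val + 4) i) then 1 else 0
def qN (n : ℕ) : ℕ := Nat.land (Nat.shiftRight 0x6996 (Nat.land (Nat.land n (Nat.shiftRight n 4)) 15)) 1
def bN (a b : ℕ) : ℕ := Nat.xor (Nat.xor (qN (Nat.xor a b)) (qN a)) (qN b)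
def rf (v x : ℕ) : ℕ := Nat.xor x (Nat.mul (bN v x) v)

theorem cv_xor (a b : ℕ) : cv (a ^^^ b) = cv a + cv b := funext fun i => by
  simp only [cv, Nat.testBit_xor, Pi.add_apply]
  generalize a.testBit _ = x; generalize b.testBit _ = y; revert x y; decide
theorem cv_zero : cv 0 = 0 := funext fun i => by simp [cv]
theorem cv_inj {a b : ℕ} (ha : a < 256) (hb : b < 256) (h : cv a = cv b) : a = b := by
  have : ∀ n < 256, cv n = 0 → n = 0 := by decide +kernel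
  exact Nat.eq_of_xor_eq_zero (this _ (Nat.xor_lt_two_pow (n := 8) ha hb) (by rw [cv_xor, h, W_add]))
theorem cv_surj (v : W) : ∃ n < 256, cv n = v := by
  have : Function.Bijective fun n : Fin 256 => cv n := (Fintype.bijective_iff_injective_and_card _).2
    ⟨fun a b h => Fin.ext (cv_inj a.2 b.2 h), by simp⟩
  obtain ⟨n, h⟩ := this.2 v
  exact ⟨n, n.2, h⟩
theorem S_cv {n : ℕ} (h : n < 256) : S (cv n) = qN n := by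
  rw [quadPlus_apply, Fin.sum_univ_four]; revert n; decide +kernel
theorem qN_lt (n : ℕ) : qN n < 2 := Nat.and_lt_two_pow _ (n := 1) (by decide)
theorem bN_lt (a b : ℕ) : bN a b < 2 :=
  Nat.xor_lt_two_pow (n := 1) (Nat.xor_lt_two_pow (n := 1) (qN_lt _) (qN_lt _)) (qN_lt _)
theorem B_cv {a b : ℕ} (ha : a < 256) (hb : b < 256) : B (cv a) (cv b) = bN a b := by
  have : ∀ x < 2, ∀ y < 2, ∀ z < 2, ((x : ℕ) : ZMod 2) - (y : ℕ) - (z : ℕ) = (Nat.xor (Nat.xor x y) z : ℕ) := by decide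
  show S (cv a + cv b) - S (cv a) - S (cv b) = _
  rw [← cv_xor, S_cv ha, S_cv hb, S_cv (Nat.xor_lt_two_pow (n := 8) ha hb)]
  exact this _ (qN_lt _) _ (qN_lt _) _ (qN_lt _)
theorem cast0 {x : ℕ} (h : x < 2) : (x : ZMod 2) = 0 ↔ x = 0 := by revert x; decide
theorem cast1 {x : ℕ} (h : x < 2) : (x : ZMod 2) = 1 ↔ x = 1 := by revert x; decide
theorem S0 {n : ℕ} (h : n < 256) : S (cv n) = 0 ↔ qN n = 0 := by rw [S_cv h, cast0 (qN_lt _)]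
theorem S1 {n : ℕ} (h : n < 256) : S (cv n) = 1 ↔ qN n = 1 := by rw [S_cv h, cast1 (qN_lt _)]
theorem B0 {a b : ℕ} (ha : a < 256) (hb : b < 256) : B (cv a) (cv b) = 0 ↔ bN a b = 0 := by
  rw [B_cv ha hb, cast0 (bN_lt _ _)]
theorem B1 {a b : ℕ} (ha : a < 256) (hb : b < 256) : B (cv a) (cv b) = 1 ↔ bN a b = 1 := by
  rw [B_cv ha hb, cast1 (bN_lt _ _)]
theorem cv_smul {x : ℕ} (h : x < 2) (v : ℕ) : cv (Nat.mul x v) = (x : ZMod 2) • cv v := by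
  obtain rfl | rfl : x = 0 ∨ x = 1 := by omega
  · simp [cv_zero]
  · simp
theorem rf_lt {v x : ℕ} (hv : v < 256) (hx : x < 256) : rf v x < 256 :=
  Nat.xor_lt_two_pow (n := 8) hx (by have := bN_lt v x; show bN v x * v < _; nlinarith)
theorem refl_cv {v x : ℕ} (hv : v < 256) (h : qN v = 1) (hx : x < 256) : (refl S (cv v)).1 (cv x) = cv (rf v x) := by
  rw [refl_ap ((S1 hv).2 h), B_cv hv hx, ← cv_smul (bN_lt _ _), ← cv_xor]; rfl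

abbrev e1 : W := cv 1
theorem Se1 : S e1 = 0 := (S0 (by decide)).2 rfl
theorem e1_ne : e1 ≠ 0 := fun h => absurd (cv_inj (by decide) (by decide) (h.trans cv_zero.symm)) (by decide)

theorem eich_ap {p a : W} (hp : S p = 0) (ha : B p a = 0) (x : W) :
    (eich S p a).1 x = x + (B a x + S a * B p x) • p + B p x • a := by
  rw [eich_apply hp ha, W_sub, CharTwo.sub_eq_add]

theorem G1 {v : W} (h : S v = 0) (h1 : B e1 v = 0) (h2 : v ≠ 0) (h3 : v ≠ e1) :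
    ∃ g ∈ Om, g.1 e1 = e1 ∧ B v (g.1 v) = 1 := by
  obtain ⟨n, hn, rfl⟩ := cv_surj v
  have : ∀ n < 256, qN n = 0 → bN 1 n = 0 → n ≠ 0 → n ≠ 1 → ∃ c < 256, (qN c = 0 ∧ bN c 1 = 0 ∧ bN c n = 1) ∧
    ∃ a < 256, qN a = 1 ∧ bN c a = 0 ∧ bN a 1 = 0 ∧ bN a n = 0 := by decide +kernel
  obtain ⟨c, hc, ⟨c1, c2, c3⟩, a, ha, a1, a2, a3, a4⟩ := this n hn ((S0 hn).1 h) ((B0 (by decide) hn).1 h1)
    (by rintro rfl; exact h2 cv_zero) (by rintro rfl; exact h3 rfl)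
  rw [← S0 hc] at c1; rw [← S1 ha] at a1; rw [← B1 hc hn] at c3
  rw [← B0 (by assumption) (by first | assumption | decide)] at c2 a2 a3 a4
  refine ⟨eich S (cv c) (cv a), eich_mem_commutator nd nex _ _, by rw [eich_ap c1 a2, a3, c2]; simp, ?_⟩
  rw [eich_ap c1 a2, a4, a1, c3, B_add, B_add, B_self]
  simp [B_comm (cv n), c3, a4]

theorem G4 {b c : W} (h1 : B e1 b = 0) (h2 : S b = 1) (h3 : S c = 1) (h4 : B e1 c = 0) (h5 : B b c = 0) :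
    ∃ d, (S d = 1 ∧ B e1 d = 0 ∧ B b d = 0) ∧ ∃ x, B e1 x = 0 ∧ B d x = 0 ∧ B c x = 1 := by
  obtain ⟨n, hn, rfl⟩ := cv_surj b
  obtain ⟨m, hm, rfl⟩ := cv_surj c
  have : ∀ n < 256, bN 1 n = 0 → qN n = 1 → ∀ m < 256, qN m = 1 → bN 1 m = 0 → bN n m = 0 → ∃ d < 256,
    (qN d = 1 ∧ bN 1 d = 0 ∧ bN n d = 0) ∧ ∃ x < 256, bN 1 x = 0 ∧ bN d x = 0 ∧ bN m x = 1 := by decide +kernel
  obtain ⟨d, hd, ⟨a, b, c⟩, x, hx, e, f, g⟩ := this n hn ((B0 (by decide) hn).1 h1) ((S1 hn).1 h2) m hm ((S1 hm).1 h3)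
    ((B0 (by decide) hm).1 h4) ((B0 hn hm).1 h5)
  exact ⟨cv d, ⟨(S1 hd).2 a, (B0 (by decide) hd).2 b, (B0 hn hd).2 c⟩, cv x, (B0 (by decide) hx).2 e, (B0 hd hx).2 f,
    (B1 hm hx).2 g⟩

theorem G5 {b : W} (h1 : B e1 b = 0) : (∃ c, S c = 1 ∧ B e1 c = 0 ∧ B b c = 0) ∧
    (S b = 1 → ∃ x, B e1 x = 0 ∧ B b x = 1) ∧ ∃ k < 64, eich S e1 b = eich S e1 (cv (2 * (k % 8) + 32 * (k / 8))) := by
  obtain ⟨n, hn, rfl⟩ := cv_surj b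
  have : ∀ n < 256, bN 1 n = 0 → (∃ c < 256, qN c = 1 ∧ bN 1 c = 0 ∧ bN n c = 0) ∧ (qN n = 1 → ∃ x < 256, bN 1 x = 0 ∧
    bN n x = 1) ∧ ∃ k < 64, n = 2 * (k % 8) + 32 * (k / 8) ∨ n ^^^ 1 = 2 * (k % 8) + 32 * (k / 8) := by decide +kernel
  obtain ⟨⟨c, hc, a, b, d⟩, e, k, hk, f⟩ := this n hn ((B0 (by decide) hn).1 h1)
  refine ⟨⟨cv c, (S1 hc).2 a, (B0 (by decide) hc).2 b, (B0 hn hc).2 d⟩, fun h => ?_, k, hk, ?_⟩
  · obtain ⟨x, hx, u, v⟩ := e ((S1 hn).1 h)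
    exact ⟨cv x, (B0 (by decide) hx).2 u, (B1 hn hx).2 v⟩
  · rcases f with f | f <;> rw [← f]
    rw [cv_xor, ← eich_add_smul Se1 h1 1, one_smul]

theorem G2 {g : O8} {p : W} (hp : S p = 0) (p0 : p ≠ 0) (h1 : g.1 p = p)
    (h : ∀ x, B p x = 0 → g.1 x = x ∨ g.1 x = x + p) : ∃ a, B p a = 0 ∧ g = eich S p a := by
  obtain ⟨w, hw⟩ := nd.exists_eq_one p0
  change B p w = 1 at hw
  have gw : B p (g.1 w) = 1 := by have := OG.map_polar g p w; rw [h1] at this; exact this.trans hw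
  have ha : B p (w + g.1 w) = 0 := by rw [B_add, hw, gw]; rfl
  have k : ∀ x, B p x = 0 → g.1 x = (eich S p (w + g.1 w)).1 x := fun x hx => by
    have := OG.map_polar g w x
    rw [eich_ap hp ha, hx, B_add', mul_zero, add_zero, zero_smul, add_zero]
    rcases h x hx with e | e <;> rw [e] at this ⊢
    · rw [show B (g.1 w) x = B w x from this, z2_add, zero_smul, add_zero]
    · rw [polar_add_right, show polar S (g.1 w) p = 1 from (B_comm _ _).trans gw] at this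
      rw [← show B (g.1 w) x + 1 = B w x from this, add_comm _ (1 : ZMod 2), add_assoc, z2_add, add_zero, one_smul]
  have kw : g.1 w = (eich S p (w + g.1 w)).1 w := by
    rw [eich_ap hp ha, hw, S_add, OG.map_Q, z2_add, B_add', B_self, B_comm w]
    simp [z2_add, ← add_assoc, W_add]
  refine ⟨_, ha, OG.ext fun x => ?_⟩
  rcases z2 (B p x) with e | e
  · exact k x e
  · have := k (x + w) (by rw [B_add, e, hw]; rfl)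
    rw [map_add, map_add, ← kw] at this
    exact add_right_cancel this

theorem exists_move {p : W} (hp : S p = 0) (p0 : p ≠ 0) : ∃ g ∈ Om, g.1 p = e1 := by
  obtain ⟨g, hg, e⟩ := nd.witt_vec p0 e1_ne ((B_self _).trans (B_self p).symm) (Se1.trans hp.symm)
  have h17 : S (cv 34) = 1 := (S1 (by decide)).2 rfl
  rcases mem_or h17 ⟨g, hg⟩ with h | h
  · exact ⟨_, h, e⟩
  · exact ⟨_, h, by rw [OG.mul_apply, e, refl_of_perp ((B0 (by decide) (by decide)).2 rfl)]⟩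

def aN (i : Fin 8) : ℕ := ![17, 19, 35, 100, 27, 136, 31, 68] i
noncomputable def sg (i : Fin 8) : O8 := refl S (cv (aN i))
def wN (l : List (Fin 8)) (x : ℕ) : ℕ := l.foldr (fun i y => rf (aN i) y) x
theorem aN_ok (i : Fin 8) : aN i < 256 ∧ qN (aN i) = 1 := by revert i; decide
theorem S_aN (i : Fin 8) : S (cv (aN i)) = 1 := (S1 (aN_ok i).1).2 (aN_ok i).2
theorem sg_sq (i : Fin 8) : sg i * sg i = 1 := refl_mul_self _ _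
theorem wN_ok (l : List (Fin 8)) {x : ℕ} (hx : x < 256) : wN l x < 256 ∧ (l.map sg).prod.1 (cv x) = cv (wN l x) := by
  induction l with
  | nil => exact ⟨hx, rfl⟩
  | cons i l ih => exact ⟨rf_lt (aN_ok i).1 ih.1, by
      rw [List.map_cons, List.prod_cons, OG.mul_apply, ih.2, sg, refl_cv (aN_ok i).1 (aN_ok i).2 ih.1]; rfl⟩
theorem O8_ext {g k : O8} (h : ∀ i < 8, g.1 (cv (2 ^ i)) = k.1 (cv (2 ^ i))) : g = k := by
  refine Subtype.ext (LinearEquiv.toLinearMap_injective ((Pi.basisFun (ZMod 2) _).ext fun i => ?_))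
  have : ∀ i, ∃ j < 8, Pi.single i 1 = cv (2 ^ j) := by decide +kernel
  obtain ⟨j, hj, e⟩ := this i
  rw [Pi.basisFun_apply, e]; exact h j hj
theorem pow_lt8 {i : ℕ} (h : i < 8) : 2 ^ i < 256 := Nat.pow_lt_pow_right (by decide) h

def WL : List (List (Fin 8)) := [[], [2], [0, 2], [3, 2], [3, 0, 2], [1, 3, 2], [4, 3, 2], [1, 3, 0, 2], [2, 3, 0, 2], [4, 3, 0, 2], [4, 1, 3, 2], [5, 4, 3, 2], [2, 1, 3, 0, 2], [4, 1, 3, 0, 2], [4, 2, 3, 0, 2], [5, 4, 3, 0, 2], [3, 4, 1, 3, 2], [5, 4, 1, 3, 2], [6, 5, 4, 3, 2], [3, 2, 1, 3, 0, 2], [4, 2, 1, 3, 0, 2], [3, 4, 1, 3, 0, 2], [5, 4, 1, 3, 0, 2], [3, 4, 2, 3, 0, 2], [5, 4, 2, 3, 0, 2], [6, 5, 4, 3, 0, 2], [2, 3, 4, 1, 3, 2], [5, 3, 4, 1, 3, 2], [6, 5, 4, 1, 3, 2], [7, 6, 5, 4, 3, 2], [5, 4, 2, 1, 3, 0, 2], [5, 3, 4, 1, 3, 0, 2], [6, 5, 4, 1, 3, 0, 2], [5, 3, 4, 2, 3, 0, 2], [6, 5, 4, 2,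 3, 0, 2], [7, 6, 5, 4, 3, 0, 2], [5, 2, 3, 4, 1, 3, 2], [4, 5, 3, 4, 1, 3, 2], [6, 5, 3, 4, 1, 3, 2], [7, 6, 5, 4, 1, 3, 2], [6, 5, 4, 2, 1, 3, 0, 2], [4, 5, 3, 4, 1, 3, 0, 2], [6, 5, 3, 4, 1, 3, 0, 2], [7, 6, 5, 4, 1, 3, 0, 2], [4, 5, 3, 4, 2, 3, 0, 2], [6, 5, 3, 4, 2, 3, 0, 2], [7, 6, 5, 4, 2, 3, 0, 2], [4, 5, 2, 3, 4, 1, 3, 2], [6, 5, 2, 3, 4, 1, 3, 2], [6, 4, 5, 3, 4, 1, 3, 2], [7, 6, 5, 3, 4, 1, 3, 2], [7, 6, 5, 4, 2, 1, 3, 0, 2], [6, 4, 5, 3, 4, 1, 3, 0, 2], [7, 6, 5, 3, 4, 1, 3, 0, 2], [6, 4, 5, 3, 4, 2, 3, 0, 2], [7, 6, 5, 3, 4, 2, 3, 0, 2], [3, 4, 5, 2, 3, 4, 1, 3, 2], [6, 4, 5, 2, 3, 4, 1, 3, 2], [7, 6, 5, 2, 3, 4, 1, 3, 2], [5, 6, 4, 5, 3, 4, 1, 3, 2], [7, 6, 4, 5, 3, 4, 1, 3, 2], [5, 6, 4, 5, 3, 4, 1, 3, 0, 2], [7, 6, 4, 5, 3, 4, 1, 3, 0, 2], [5, 6, 4, 5, 3, 4, 2, 3, 0, 2], [7, 6, 4, 5, 3, 4, 2, 3, 0, 2], [1, 3,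 4, 5, 2, 3, 4, 1, 3, 2], [6, 3, 4, 5, 2, 3, 4, 1, 3, 2], [5, 6, 4, 5, 2, 3, 4, 1, 3, 2], [7, 6, 4, 5, 2, 3, 4, 1, 3, 2], [7, 5, 6, 4, 5, 3, 4, 1, 3, 2], [7, 5, 6, 4, 5, 3, 4, 1, 3, 0, 2], [7, 5, 6, 4, 5, 3, 4, 2, 3, 0, 2], [6, 1, 3, 4, 5, 2, 3, 4, 1, 3, 2], [5, 6, 3, 4, 5, 2, 3, 4, 1, 3, 2], [7, 6, 3, 4, 5, 2, 3, 4, 1, 3, 2], [7, 5, 6, 4, 5, 2, 3, 4, 1, 3, 2], [6, 7, 5, 6, 4, 5, 3, 4, 1, 3, 2], [6, 7, 5, 6, 4, 5, 3, 4, 1, 3, 0, 2], [6, 7, 5, 6, 4, 5, 3, 4, 2, 3, 0, 2], [5, 6, 1, 3, 4, 5, 2, 3, 4, 1, 3, 2], [7, 6, 1, 3, 4, 5, 2, 3, 4, 1, 3, 2], [4, 5, 6, 3, 4, 5, 2, 3, 4, 1, 3, 2], [7, 5, 6, 3, 4, 5, 2, 3, 4, 1, 3, 2], [6, 7, 5, 6, 4, 5, 2, 3, 4, 1, 3, 2], [4, 5, 6, 1, 3, 4, 5, 2, 3, 4, 1, 3, 2], [7, 5, 6, 1, 3, 4, 5, 2, 3, 4, 1, 3, 2], [7, 4, 5, 6, 3, 4, 5, 2, 3, 4, 1, 3, 2], [6, 7, 5, 6, 3, 4, 5, 2, 3, 4, 1, 3, 2], [3, 4,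 5, 6, 1, 3, 4, 5, 2, 3, 4, 1, 3, 2], [7, 4, 5, 6, 1, 3, 4, 5, 2, 3, 4, 1, 3, 2], [6, 7, 5, 6, 1, 3, 4, 5, 2, 3, 4, 1, 3, 2], [6, 7, 4, 5, 6, 3, 4, 5, 2, 3, 4, 1, 3, 2], [2, 3, 4, 5, 6, 1, 3, 4, 5, 2, 3, 4, 1, 3, 2], [7, 3, 4, 5, 6, 1, 3, 4, 5, 2, 3, 4, 1, 3, 2], [6, 7, 4, 5, 6, 1, 3, 4, 5, 2, 3, 4, 1, 3, 2], [5, 6, 7, 4, 5, 6, 3, 4, 5, 2, 3, 4, 1, 3, 2], [0, 2, 3, 4, 5, 6, 1, 3, 4, 5, 2, 3, 4, 1, 3, 2], [7, 2, 3, 4, 5, 6, 1, 3, 4, 5, 2, 3, 4, 1, 3, 2], [6, 7, 3, 4, 5, 6, 1, 3, 4, 5, 2, 3, 4, 1, 3, 2], [5, 6, 7, 4, 5, 6, 1, 3, 4, 5, 2, 3, 4, 1, 3, 2], [7, 0, 2, 3, 4, 5, 6, 1, 3, 4, 5, 2, 3, 4, 1, 3, 2], [6, 7, 2, 3, 4, 5, 6, 1, 3, 4, 5, 2, 3, 4, 1, 3, 2], [5, 6, 7, 3, 4, 5, 6, 1, 3, 4, 5, 2, 3, 4, 1, 3, 2], [6, 7, 0, 2, 3, 4, 5, 6, 1, 3, 4, 5, 2, 3, 4, 1, 3, 2], [5, 6, 7, 2, 3, 4, 5, 6, 1, 3, 4, 5, 2, 3, 4, 1, 3, 2], [4, 5,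 6, 7, 3, 4, 5, 6, 1, 3, 4, 5, 2, 3, 4, 1, 3, 2], [5, 6, 7, 0, 2, 3, 4, 5, 6, 1, 3, 4, 5, 2, 3, 4, 1, 3, 2], [4, 5, 6, 7, 2, 3, 4, 5, 6, 1, 3, 4, 5, 2, 3, 4, 1, 3, 2], [4, 5, 6, 7, 0, 2, 3, 4, 5, 6, 1, 3, 4, 5, 2, 3, 4, 1, 3, 2], [3, 4, 5, 6, 7, 2, 3, 4, 5, 6, 1, 3, 4, 5, 2, 3, 4, 1, 3, 2], [3, 4, 5, 6, 7, 0, 2, 3, 4, 5, 6, 1, 3, 4, 5, 2, 3, 4, 1, 3, 2], [1, 3, 4, 5, 6, 7, 2, 3, 4, 5, 6, 1, 3, 4, 5, 2, 3, 4, 1, 3, 2], [1, 3, 4, 5, 6, 7, 0, 2, 3, 4, 5, 6, 1, 3, 4, 5, 2, 3, 4, 1, 3, 2], [2, 3, 4, 5, 6, 7, 0, 2, 3, 4, 5, 6, 1, 3, 4, 5, 2, 3, 4, 1, 3, 2], [2, 1, 3, 4, 5, 6, 7, 0, 2, 3, 4, 5, 6, 1, 3, 4, 5, 2, 3, 4, 1, 3, 2], [3, 2, 1, 3, 4, 5, 6, 7, 0, 2, 3, 4, 5, 6, 1, 3, 4, 5, 2, 3, 4, 1, 3, 2], [4, 3, 2, 1, 3, 4, 5, 6, 7, 0, 2, 3, 4, 5, 6, 1, 3, 4, 5, 2, 3, 4, 1, 3, 2], [5, 4, 3, 2, 1, 3, 4, 5, 6, 7, 0, 2, 3, 4, 5, 6, 1, 3, 4,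 5, 2, 3, 4, 1, 3, 2], [6, 5, 4, 3, 2, 1, 3, 4, 5, 6, 7, 0, 2, 3, 4, 5, 6, 1, 3, 4, 5, 2, 3, 4, 1, 3, 2], [7, 6, 5, 4, 3, 2, 1, 3, 4, 5, 6, 7, 0, 2, 3, 4, 5, 6, 1, 3, 4, 5, 2, 3, 4, 1, 3, 2]]

theorem sg_gen {N : Subgroup O8} (h : ∀ i, sg i ∈ N) : N = ⊤ := eq_top_of_refl nd nex fun v hv => by
  obtain ⟨n, hn, rfl⟩ := cv_surj v
  have : ∀ n < 256, qN n = 1 → ∃ w ∈ WL, wN w 17 = n := by decide +kernel
  obtain ⟨w, -, e⟩ := this n hn ((S1 hn).1 (z2_ne hv))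
  have m : (w.map sg).prod ∈ N := N.list_prod_mem fun x hx => by
    obtain ⟨i, -, rfl⟩ := List.mem_map.1 hx; exact h i
  rw [← e, ← (wN_ok w (by decide)).2, ← conj_refl]
  exact N.mul_mem (N.mul_mem m (h 0)) (N.inv_mem m)

def wr : List (Fin 8) := [7, 6, 5, 4, 2, 3, 0, 2, 1, 3, 4, 5, 6, 7, 6, 5, 4, 3, 2, 1, 3, 4, 5, 6, 3, 2, 1, 3, 0, 2, 1, 0]
def wt : List (Fin 8) := [7, 6, 5, 4, 3, 2, 1, 3, 4, 5, 6, 0, 2, 3, 4, 5, 1, 3, 4, 2, 3, 0, 2, 1, 3, 4, 5, 6, 7, 6, 5, 4,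
  3, 2, 1, 3, 4, 5, 6, 0, 2, 3, 4, 5, 1, 3, 4, 2, 3, 0, 2, 1, 3, 4, 5, 6, 7, 6, 4, 1]
noncomputable def rr : O8 := eich S (cv 1) (cv 2)
noncomputable def tt : O8 := eich S (cv 4) (cv 8)

theorem eich_cv {p a x : ℕ} (hp : p < 256) (ha : a < 256) (hx : x < 256) (h1 : qN p = 0) (h2 : qN a = 0)
    (h3 : bN p a = 0) : (eich S (cv p) (cv a)).1 (cv x) = cv (x ^^^ Nat.mul (bN a x) p ^^^ Nat.mul (bN p x) a) := by
  rw [eich_ap ((S0 hp).2 h1) ((B0 hp ha).2 h3), (S0 ha).2 h2, zero_mul, add_zero, cv_xor, cv_xor, cv_smul (bN_lt _ _),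
    cv_smul (bN_lt _ _), B_cv ha hx, B_cv hp hx]
theorem wr_eq : (wr.map sg).prod = rr := O8_ext fun i hi => by
  rw [(wN_ok _ (pow_lt8 hi)).2, rr, eich_cv (by decide) (by decide) (pow_lt8 hi) rfl rfl rfl]
  refine congrArg cv ?_; revert i; decide +kernel
theorem wt_eq : (wt.map sg).prod = tt := O8_ext fun i hi => by
  rw [(wN_ok _ (pow_lt8 hi)).2, tt, eich_cv (by decide) (by decide) (pow_lt8 hi) rfl rfl rfl]
  refine congrArg cv ?_; revert i; decide +kernel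

theorem sg_rel (i j : Fin 8) : (sg i * sg j) ^ CoxeterMatrix.E₈ i j = 1 := by
  have : ∀ n, (sg i * sg j) ^ n = ((List.replicate n [i, j]).flatten.map sg).prod := fun n => by
    induction n with
    | zero => rfl
    | succ n ih => rw [pow_succ', ih]; simp [List.replicate_succ, mul_assoc]
  rw [this]
  refine O8_ext fun k hk => ((wN_ok _ (pow_lt8 hk)).2).trans (congrArg cv ?_)
  clear this; revert i j k; decide +kernel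

end Cfsg.Agent.Co1A
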