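import Cfsg.Agent.Co1T.A0
import Cfsg.Agent.Mon.Basic
import Cfsg.Agent.S5395

/-! Frames `Fr z Q p μ`: coordinates `p : Q → W` and the action `μ : C(z) → O⁺(8,2)` with image `Ω` for a large
extraspecial `Q = 2^{1+8}` with `C(z)/Q` perfect of order `|Ω⁺(8,2)|` (`exists_Fr`, `Fr.twist`, `Fr.theta`, `Fr.trans`). -/

set_option autoImplicit false
set_option linter.unusedSectionVars false

namespace Cfsg.Agent.Co1A

open Cfsg.Agent.Geom Cfsg.Agent.Geom.Formed Subgroup Cfsg.Agent.BG Cfsg.Agent.LES Cfsg.Agent.PGrp Module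

variable {G : Type*} [Group G] [Finite G] {z x y u q : G} {Q : Subgroup G} {p : G → W} {μ : C1[z] →* O8}

structure Fr (z : G) (Q : Subgroup G) (p : G → W) (μ : C1[z] →* O8) : Prop where
  le : LE Q z
  lin : ∃ e : le.toES.isES.V ≃ₗ[ZMod 2] W, (∀ x : Q, p x = e (le.toES.isES.π x)) ∧ ∀ v, S (e v) = le.toES.isES.Q v
  act : ∀ h : C1[z], ∀ x ∈ Q, p (h.1 * x * h.1⁻¹) = (μ h).1 (p x)
  ker : ∀ h : C1[z], μ h = 1 ↔ h.1 ∈ Q
  range : μ.range = Om

theorem inner (h : ES Q z) (φ : Q ≃* Q) (hφ : ∀ x, h.isES.π (φ x) = h.isES.π x) :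
    ∃ q ∈ Q, ∀ x : Q, (φ x).1 = q * x * q⁻¹ := by
  obtain ⟨q, hq⟩ := S5395.result h.isExtraspecial φ fun x => by
    rw [h.center', ← h.isES.mk_eq_zero, h.isES.mk_mul, h.isES.mk_inv, hφ, add_neg_cancel]
  exact ⟨q, q.2, fun x => congrArg Subtype.val (hq x)⟩

/-- Conjugation on `Q`. -/
def cQ (h : LE Q z) : C1[z] →* MulAut Q := Q.normalizerMonoidHom.comp (inclusion fun x hx => h.nQ x (mem_cent1.1 hx))

theorem cQ_val (h : LE Q z) (g : C1[z]) (x : Q) : (cQ h g x).1 = g.1 * x * g.1⁻¹ := rfl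

namespace Fr
variable (F : Fr z Q p μ)
include F

theorem es : ES Q z := F.le.toES
theorem Q_le (hx : x ∈ Q) : x ∈ C1[z] := mem_cent1.2 (F.es.zc x hx)
theorem conj (h : C1[z]) (hx : x ∈ Q) : h.1 * x * h.1⁻¹ ∈ Q := F.le.conj_mem (mem_cent1.1 h.2) hx
theorem add (hx : x ∈ Q) (hy : y ∈ Q) : p (x * y) = p x + p y := by
  obtain ⟨e, h, -⟩ := F.lin
  rw [h ⟨x, hx⟩, h ⟨y, hy⟩, ← map_add, ← IsES.mk_mul]; exact h ⟨_, Q.mul_mem hx hy⟩
theorem surj (v : W) : ∃ x ∈ Q, p x = v := by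
  obtain ⟨e, h, -⟩ := F.lin
  obtain ⟨x, hx⟩ := F.es.isES.mk_surjective (e.symm v)
  exact ⟨x, x.2, by rw [h, hx, e.apply_symm_apply]⟩
theorem p0 (hx : x ∈ Q) : p x = 0 ↔ x = 1 ∨ x = z := by
  obtain ⟨e, h, -⟩ := F.lin
  rw [h ⟨x, hx⟩, e.map_eq_zero_iff, IsES.mk_eq_zero, F.es.mem_zp']
theorem p1 : p 1 = 0 := (F.p0 Q.one_mem).2 (.inl rfl)
theorem pz : p z = 0 := (F.p0 F.es.zQ).2 (.inr rfl)
theorem pmz (hx : x ∈ Q) : p (x * z) = p x := by rw [F.add hx F.es.zQ, F.pz, add_zero]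
theorem inv (hx : x ∈ Q) : p x⁻¹ = p x := by
  rw [← W_neg (p x), eq_neg_iff_add_eq_zero, ← F.add (Q.inv_mem hx) hx, inv_mul_cancel, F.p1]
theorem eq_iff (hx : x ∈ Q) (hy : y ∈ Q) : p x = p y ↔ y = x ∨ y = x * z := by
  rw [← inv_mul_eq_iff_eq_mul, ← inv_mul_eq_one (a := x) |>.symm.trans Iff.rfl |>.symm.trans eq_comm,
    ← F.p0 (Q.mul_mem (Q.inv_mem hx) hy), F.add (Q.inv_mem hx) hy, F.inv hx, ← W_sub, sub_eq_zero]
theorem sq (hx : x ∈ Q) : S (p x) = 0 ↔ x * x = 1 := by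
  obtain ⟨e, h, k⟩ := F.lin
  rw [h ⟨x, hx⟩, k, IsES.Q_eq_zero, pow_two, Subtype.ext_iff]; rfl
theorem sq1 (hx : x ∈ Q) (h : S (p x) = 1) : x * x = z :=
  (F.es.sq x hx).resolve_left fun e => by rw [(F.sq hx).2 e] at h; cases h
theorem comm (hx : x ∈ Q) (hy : y ∈ Q) : B (p x) (p y) = 0 ↔ Commute x y := by
  obtain ⟨e, h, k⟩ := F.lin
  rw [h ⟨x, hx⟩, h ⟨y, hy⟩, B, QuadraticMap.polar, ← map_add, k, k, k, ← QuadraticMap.polar, IsES.polar_Q, IsES.B_eq_zero]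
  exact ⟨fun h => congrArg Subtype.val h, fun h => Subtype.ext h⟩
theorem card : #Q = 512 := by
  obtain ⟨e, -⟩ := F.lin
  rw [F.es.isES.card_eq_mul, Nat.card_congr e.toEquiv]; simp
theorem mem (h : C1[z]) : μ h ∈ Om := F.range ▸ ⟨h, rfl⟩
theorem lift {g : O8} (hg : g ∈ Om) : ∃ h, μ h = g := by rwa [← F.range] at hg
theorem cardH : #C1[z] = 512 * 174182400 := by
  have := μ.ker.card_mul_index
  rw [index_ker, F.range, card_Om, show μ.ker = Q.subgroupOf C1[z] from Subgroup.ext F.ker,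
    Nat.card_congr (subgroupOfEquivOfLe fun x => F.Q_le).toEquiv, F.card] at this
  exact this.symm

theorem twist (σ : O8) : Fr z Q (fun x => σ.1 (p x)) ((MulAut.conj σ).toMonoidHom.comp μ) where
  le := F.le
  lin := by
    obtain ⟨e, h, k⟩ := F.lin
    exact ⟨e.trans σ.1, fun x => congrArg σ.1 (h x), fun v => (OG.map_Q σ _).trans (k v)⟩
  act h x hx := by
    show σ.1 _ = σ.1 ((μ h).1 (σ⁻¹.1 (σ.1 (p x))))
    rw [F.act h x hx, OG.inv_apply_apply]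
  ker h := by rw [← F.ker]; exact (MulAut.conj σ).map_eq_one_iff
  range := by rw [MonoidHom.range_comp, F.range]; exact Normal.conj_smul_eq_self σ Om

theorem lift_fix {g : O8} (hg : g ∈ Om) (hx : x ∈ Q) (hy : y ∈ Q) (h0 : p y ≠ 0) (e : g.1 (p x) = p y) :
    ∃ h : C1[z], μ h = g ∧ h.1 * x * h.1⁻¹ = y := by
  obtain ⟨h, rfl⟩ := F.lift hg
  rw [← F.act h x hx, eq_comm] at e
  rcases (F.eq_iff hy (F.conj h hx)).1 e with e | e
  · exact ⟨h, rfl, e⟩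
  · rw [Ne, F.p0 hy, not_or] at h0
    obtain ⟨q, hq, f⟩ := F.es.exists_conj hy h0.1 h0.2
    refine ⟨⟨q, F.Q_le hq⟩⁻¹ * h, by rw [map_mul, map_inv, (F.ker _).2 hq, inv_one, one_mul], ?_⟩
    show q⁻¹ * h.1 * x * (q⁻¹ * h.1)⁻¹ = y
    rw [show q⁻¹ * h.1 * x * (q⁻¹ * h.1)⁻¹ = q⁻¹ * (h.1 * x * h.1⁻¹) * q by group, e, ← f]; group

theorem trans (hx : x ∈ Q) (hy : y ∈ Q) (x2 : x * x = 1) (y2 : y * y = 1) (x0 : p x ≠ 0) (y0 : p y ≠ 0) :
    ∃ h : C1[z], h.1 * x * h.1⁻¹ = y := by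
  obtain ⟨a, ha, e⟩ := exists_move ((F.sq hx).2 x2) x0
  obtain ⟨b, hb, f⟩ := exists_move ((F.sq hy).2 y2) y0
  exact (F.lift_fix (Om.mul_mem (Om.inv_mem hb) ha) hx hy y0 (by
    rw [OG.mul_apply, e, ← f, OG.inv_apply_apply])).imp fun _ h => h.2

theorem inner (φ : Q ≃* Q) (hφ : ∀ x : Q, p (φ x) = p x) : ∃ q ∈ Q, ∀ x : Q, (φ x).1 = q * x * q⁻¹ := by
  obtain ⟨e, h, -⟩ := F.lin
  exact Co1A.inner F.es φ fun x => e.injective (by rw [← h, ← h, hφ])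

theorem theta {G' : Type*} [Group G'] [Finite G'] {z' : G'} {Q' : Subgroup G'} {p' : G' → W} {μ' : C1[z'] →* O8}
    (F' : Fr z' Q' p' μ') : ∃ θ : Q' ≃* Q, ∀ x, p (θ x) = p' x := by
  obtain ⟨e, h, k⟩ := F.lin
  obtain ⟨e', h', k'⟩ := F'.lin
  have hq : ∀ v, F.es.isES.Q ((e'.trans e.symm) v) = F'.es.isES.Q v := fun v => by
    rw [← k, ← k', LinearEquiv.trans_apply, e.apply_symm_apply]
  obtain ⟨θ, -, hθ⟩ := F'.es.isES.exists_mulEquiv F.es.isES (e'.trans e.symm) (fun v w => by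
    rw [← IsES.polar_Q, ← IsES.polar_Q, QuadraticMap.polar, QuadraticMap.polar, ← map_add, hq, hq, hq]) hq
  exact ⟨θ, fun x => by rw [h, hθ, h', LinearEquiv.trans_apply, e.apply_symm_apply]⟩

end Fr

theorem exists_Fr (h : LE Q z) (hQ : #Q = 2 ^ 9) (hc : #C1[z] = 2 ^ 9 * 174182400)
    (hp : commutator C1[z] ⊔ Q.subgroupOf C1[z] = ⊤) : ∃ p μ, Fr z Q p μ := by
  classical
  have E := h.toES.isES
  have nd' := E.quad_nondeg_iff.2 h.toES.center'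
  have hz : ∀ g, cQ h g ⟨z, h.zQ⟩ = ⟨z, h.zQ⟩ := fun g => Subtype.ext (mul_inv_eq_iff_eq_mul.2 (mem_cent1.1 g.2))
  have ex : ∀ g : C1[z], ∃ a : OG E.Q, ∀ x, a.1 (E.π x) = E.π (cQ h g x) := fun g => by
    have w : ∀ x, E.π (cQ h g (E.out (E.π x))) = E.π (cQ h g x) := fun x => by
      obtain ⟨u, hu, e⟩ := E.exists_out x
      rw [e, map_mul, E.mk_mul, (E.mk_eq_zero (x := cQ h g u)).2, add_zero]
      rw [← hz g]; exact mem_map_of_mem (cQ h g).toMonoidHom hu |> (MonoidHom.map_zpowers _ _).le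
    let f : E.V →ₗ[ZMod 2] E.V := AddMonoidHom.toZModLinearMap 2 <| AddMonoidHom.mk'
      (fun v => E.π (cQ h g (E.out v))) fun a b => by
        obtain ⟨a, rfl⟩ := E.mk_surjective a
        obtain ⟨b, rfl⟩ := E.mk_surjective b
        rw [← E.mk_mul, w, w, w, map_mul, E.mk_mul]
    have su : Function.Surjective f := fun v => by
      obtain ⟨a, rfl⟩ := E.mk_surjective v
      exact ⟨E.π ((cQ h g).symm a), (w _).trans (by rw [MulEquiv.apply_symm_apply])⟩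
    refine ⟨⟨.ofBijective f su.bijective_of_finite, mem_isom_ofQuad.2 fun v => ?_⟩, w⟩
    obtain ⟨a, rfl⟩ := E.mk_surjective v
    have : E.Q (E.π (cQ h g a)) = 0 ↔ E.Q (E.π a) = 0 := by
      rw [E.Q_eq_zero, E.Q_eq_zero, ← map_pow, MulEquiv.map_eq_one_iff]
    refine (congrArg E.Q (w a)).trans ?_
    revert this; generalize E.Q (E.π (cQ h g a)) = s; generalize E.Q (E.π a) = t; revert s t; decide
  choose ν hν using ex
  let ν' : C1[z] →* OG E.Q := MonoidHom.mk' ν fun a b => OG.ext fun v => by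
    obtain ⟨x, rfl⟩ := E.mk_surjective v
    rw [OG.mul_apply, hν, hν, hν, map_mul]; rfl
  have ker : ∀ g, ν' g = 1 ↔ g.1 ∈ Q := fun g => by
    refine ⟨fun e => ?_, fun hg => OG.ext fun v => ?_⟩
    · obtain ⟨q, hq, f⟩ := inner h.toES (cQ h g) fun x => by rw [← hν, show ν g = 1 from e]; rfl
      have := h.cQ (q⁻¹ * g) fun y hy => by
        have : g.1 * y * g.1⁻¹ = q * y * q⁻¹ := f ⟨y, hy⟩
        refine cj_eq_iff_comm.1 ?_
        rw [show q⁻¹ * g.1 * y * (q⁻¹ * g.1)⁻¹ = q⁻¹ * (g.1 * y * g.1⁻¹) * q by group, this]; group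
      rw [← Q.mul_mem_cancel_left (Q.inv_mem hq)]
      rcases this with e | e <;> rw [e]
      exacts [Q.one_mem, h.zQ]
    · obtain ⟨x, rfl⟩ := E.mk_surjective v
      refine (hν g x).trans ?_
      rw [show cQ h g x = ⟨g, hg⟩ * x * ⟨g, hg⟩⁻¹ from rfl, E.mk_mul, E.mk_mul, E.mk_inv]
      show _ = E.π x
      abel
  have cr : #ν'.range = 174182400 := by
    have := ν'.ker.card_mul_index
    rw [index_ker, show ν'.ker = Q.subgroupOf C1[z] from Subgroup.ext ker,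
      Nat.card_congr (subgroupOfEquivOfLe fun x hx => mem_cent1.2 (h.zc x hx)).toEquiv, hQ, hc] at this
    omega
  have rk' : finrank (ZMod 2) E.V = 8 := E.finrank_eq hQ
  have wi : E.quad.WittIndex 4 := (E.wittIndex_cases h.toES.center' (m := 3) hQ).resolve_right fun k => by
    have := card_subgroup_dvd_card ν'.range
    rw [cr, card_isom_minus 3 nd' k rk', Nat.card_zmod] at this
    revert this; decide
  obtain ⟨e, he⟩ := exists_isIso_plus nd' (m := 4) rk' wi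
  let μ : C1[z] →* O8 := he.isomCongr.toMonoidHom.comp ν'
  have k' : ∀ g, μ g = 1 ↔ g.1 ∈ Q := fun g => he.isomCongr.map_eq_one_iff.trans (ker g)
  refine ⟨fun x => if hx : x ∈ Q then e (E.π ⟨x, hx⟩) else 0, μ, h, ⟨e, fun x => dif_pos x.2, he.2⟩, fun g x hx => ?_,
    k', eq_of_le_of_card_ge ?_ ?_⟩
  · rw [dif_pos hx, dif_pos (h.conj_mem (mem_cent1.1 g.2) hx)]
    show _ = e ((ν g).1 (e.symm (e _)))
    rw [e.symm_apply_apply, hν]; rfl
  · rw [μ.range_eq_map, ← hp, Subgroup.map_sup]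
    exact sup_le (by rw [map_commutator_eq]; exact commutator_mono le_top le_top)
      fun _ ⟨g, hg, e⟩ => by rw [← e, (k' g).2 hg]; exact one_mem _
  · rw [card_Om, MonoidHom.range_comp, card_map_of_injective he.isomCongr.injective, cr]

end Cfsg.Agent.Co1A
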