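import Cfsg.Agent.Co1T.A1

/-! `Fr.star`: for a conjugate `u ≠ z` of `z` in `Q`, the elements of `Q_u ∩ C(z)` over the nonsingular Eichler
transformations at `u` square to `u` and have commutators with `C_Q(u)` in `⟨uz⟩`. -/

set_option autoImplicit false
set_option linter.unusedSectionVars false

namespace Cfsg.Agent.Co1A

open Cfsg.Agent.Geom Cfsg.Agent.Geom.Formed Subgroup Cfsg.Agent.BG Cfsg.Agent.LES Cfsg.Agent.PGrp Module

variable {G : Type*} [Group G] [Finite G] {z x u q : G} {Q P : Subgroup G} {p : G → W} {μ : C1[z] →* O8} {b : W}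
  {y : C1[z]}

theorem swap (h : Pair Q P z u) : ∃ n, n * z * n⁻¹ = u ∧ n * u * n⁻¹ = z ∧ cj n Q = P ∧ cj n P = Q := by
  obtain ⟨q, hq, e⟩ := h.exq
  obtain ⟨v, hv, f⟩ := h.symm.exq
  obtain ⟨g, hg, k⟩ := h.tr
  have a := cj_eq_iff_comm.2 (h.hQ.zc q hq)
  have b := cj_eq_iff_comm.2 (h.hP.zc v hv)
  have c : ∀ t, q * v * q * t * (q * v * q)⁻¹ = q * (v * (q * t * q⁻¹) * v⁻¹) * q⁻¹ := fun t => by group
  have h1 : q * v * q * z * (q * v * q)⁻¹ = u := by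
    rw [c, a, f, ← conj_mul, a, e, ← mul_assoc, ← h.sz.eq, mul_assoc, h.hQ.toES.zz, mul_one]
  have h2 : q * v * q * u * (q * v * q)⁻¹ = z := by
    rw [c, e, show v * (u * z) * v⁻¹ = v * u * v⁻¹ * (v * z * v⁻¹) from conj_mul.symm, b, f, ← h.sz.eq, ← mul_assoc u, h.hP.toES.zz, one_mul, a]
  have h3 : cj (q * v * q) Q = P := (h.hQ.cj_eq (h1.trans hg.symm)).trans k
  refine ⟨_, h1, h2, h3, ?_⟩
  rw [← h3, ← cj_mul, h.hQ.cj_eq (g := 1), cj_one]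
  rw [mul_inv_rev, mul_assoc, mul_assoc, ← mul_assoc z, ← mul_assoc _ (z * _), ← mul_assoc _ z, h1, ← mul_assoc, h2]
  simp

namespace Fr
variable (F : Fr z Q p μ) (h : Pair Q P z u) (hu : p u = e1)
include F h hu

theorem cu (hx : x ∈ Q) : B e1 (p x) = 0 ↔ Commute x u := by
  rw [← hu, F.comm h.sQ hx]; exact ⟨Commute.symm, Commute.symm⟩

theorem fix {g : O8} (hg : g ∈ Om) (e : g.1 e1 = e1) : ∃ k : C1[z], μ k = g ∧ Commute k.1 u :=
  (F.lift_fix hg h.sQ h.sQ (hu ▸ e1_ne) (hu ▸ e)).imp fun _ k => ⟨k.1, cj_eq_iff_comm.1 k.2⟩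

theorem inter (hx : x ∈ Q) (hx' : x ∈ P) : (x = 1 ∨ x = z) ∨ x = u ∨ x = u * z := by
  by_contra H
  rw [← F.p0 hx, ← F.eq_iff h.sQ hx, hu, not_or] at H
  obtain ⟨g, hg, e, f⟩ := G1 ((F.sq hx).2 (Mon.Pair.inter_sq h hx hx')) ((F.cu h hu hx).2 (h.hP.zc x hx')) H.1
    (Ne.symm H.2)
  obtain ⟨k, rfl, c⟩ := F.fix h hu hg e
  rw [← F.act k x hx, (F.comm hx (F.conj k hx)).2 (Mon.Pair.inter_comm h hx hx' (F.conj k hx) (h.hP.conj_mem c hx'))] at f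
  cases f

theorem inter_c {t : G} (ht : t ∈ Q) (ht' : t ∈ P) (hz : Commute x z) (c : Commute x u) : Commute x t := by
  rcases F.inter h hu ht ht' with (e | e) | e | e <;> rw [e]
  exacts [.one_right _, hz, c, c.mul_right hz]

theorem ex_b (hy : y.1 ∈ P) : ∃ b, B e1 b = 0 ∧ μ y = eich S e1 b := by
  refine G2 Se1 e1_ne (by rw [← hu, ← F.act y u h.sQ, cj_eq_iff_comm.2 (h.hP.zc _ hy)]) fun v hv => ?_
  obtain ⟨x, hx, rfl⟩ := F.surj v
  have m : y.1 * x * y.1⁻¹ * x⁻¹ ∈ Q := Q.mul_mem (F.conj y hx) (Q.inv_mem hx)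
  have m' : y.1 * x * y.1⁻¹ * x⁻¹ ∈ P := by
    rw [mul_assoc, mul_assoc, ← mul_assoc x]
    exact P.mul_mem hy (h.hP.conj_mem ((F.cu h hu hx).1 hv) (P.inv_mem hy))
  have := F.inter h hu m m'
  rw [← F.p0 m, ← F.eq_iff h.sQ m, F.add (F.conj y hx) (Q.inv_mem hx), F.inv hx, F.act y x hx, hu] at this
  exact this.imp (fun e => by rw [← W_sub, sub_eq_zero] at e; exact e)
    fun e => by rw [e, add_comm, add_assoc, W_add, add_zero]

theorem onto (hb : B e1 b = 0) : ∃ y : C1[z], y.1 ∈ P ∧ μ y = eich S e1 b := by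
  classical
  let f := μ.comp (inclusion (inf_le_right : P ⊓ C1[z] ≤ C1[z]))
  let T := (Finset.range 64).image fun k => eich S e1 (cv (2 * (k % 8) + 32 * (k / 8)))
  have hT : ∀ b, B e1 b = 0 → eich S e1 b ∈ T := fun b hb =>
    let ⟨k, hk, e⟩ := (G5 hb).2.2
    Finset.mem_image.2 ⟨k, Finset.mem_range.2 hk, e.symm⟩
  have c1 : #(P ⊓ C1[z] : Subgroup G) = 256 := by
    have := Mon.half h.hP.toES h.zP h.hQ.toES.z1 h.ne.symm
    obtain ⟨g, -, k⟩ := h.tr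
    rw [show #P = 512 by rw [← k, card_cj, F.card]] at this
    omega
  have c2 : #f.ker ≤ 4 := by
    refine le_trans (Nat.card_le_card_of_injective (β := ({1, z, u, u * z} : Finset G))
      (fun k => ⟨k.1.1, by simpa [or_assoc] using F.inter h hu ((F.ker _).1 k.2) k.1.2.1⟩)
      fun a b e => Subtype.ext (Subtype.ext (Subtype.mk.inj e))) ?_
    rw [Nat.card_eq_fintype_card, Fintype.card_coe]; exact Finset.card_le_four
  have c3 := f.ker.card_mul_index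
  rw [index_ker, c1] at c3
  have : (f.range : Set O8) = T := Set.eq_of_subset_of_ncard_le (by
    rintro _ ⟨k, rfl⟩
    obtain ⟨b, hb, e⟩ := F.ex_b h hu (y := inclusion inf_le_right k) k.2.1
    exact (show f k = _ from e) ▸ hT b hb) (by
    have : T.card ≤ 64 := Finset.card_image_le.trans (by simp)
    rw [Set.ncard_coe_finset, ← Nat.card_coe_set_eq]
    change _ ≤ #f.range
    have := Nat.mul_le_mul_right #f.range c2
    omega)
  obtain ⟨k, e⟩ : eich S e1 b ∈ (f.range : Set O8) := this ▸ hT b hb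
  exact ⟨inclusion inf_le_right k, k.2.1, e⟩

variable (hy : y.1 ∈ P) (hb : B e1 b = 0) (h1 : S b = 1) (e : μ y = eich S e1 b)
include hy hb h1 e

theorem L0' (hx : x ∈ Q) (a1 : B e1 (p x) = 0) (a2 : B b (p x) = 0) (a3 : S (p x) = 1) : Commute y.1 x := by
  obtain ⟨d, ⟨d1, d2, d3⟩, w, w1, w2, w3⟩ := G4 hb h1 a3 a1 a2
  obtain ⟨k, hk, c⟩ := F.fix h hu (refl_mul_mem a3 d1) (by
    rw [OG.mul_apply, refl_of_perp ((B_comm _ _).trans d2), refl_of_perp ((B_comm _ _).trans a1)])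
  obtain ⟨x0, h0, rfl⟩ := F.surj w
  have kz : Commute k.1 z := mem_cent1.1 k.2
  have m : (y⁻¹ * (k * y * k⁻¹)).1 ∈ Q := (F.ker _).1 (by
    rw [map_mul, map_mul, map_mul, map_inv, map_inv, e, conj_eich, ← hu, ← F.act k u h.sQ, cj_eq_iff_comm.2 c, hu, hk,
      OG.mul_apply, refl_of_perp ((B_comm _ _).trans d3), refl_of_perp ((B_comm _ _).trans a2), inv_mul_cancel])
  have c0 := (F.cu h hu h0).1 w1
  have c1 : Commute (k.1 * x0 * k.1⁻¹) u := (c.mul_left c0).mul_left c.inv_left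
  have t := F.inter_c h hu m (P.mul_mem (P.inv_mem hy) (h.hP.conj_mem c hy)) (F.es.zc _ (F.conj k h0)) c1
  have s := F.inter_c h hu (t := y.1 * x0 * y.1⁻¹ * x0⁻¹) (Q.mul_mem (F.conj y h0) (Q.inv_mem h0)) (by
    rw [mul_assoc, mul_assoc, ← mul_assoc x0]
    exact P.mul_mem hy (h.hP.conj_mem c0 (P.inv_mem hy))) kz c
  have r : Commute y.1 (x0⁻¹ * (k.1 * x0 * k.1⁻¹)) := by
    have t' : k.1 * x0 * k.1⁻¹ * (y.1⁻¹ * (k.1 * y.1 * k.1⁻¹)) = y.1⁻¹ * (k.1 * y.1 * k.1⁻¹) * (k.1 * x0 * k.1⁻¹) := t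
    have s' : k.1 * (y.1 * x0 * y.1⁻¹ * x0⁻¹) = y.1 * x0 * y.1⁻¹ * x0⁻¹ * k.1 := s
    generalize y.1 = Y at *; generalize k.1 = K at *
    show _ = _
    calc Y * (x0⁻¹ * (K * x0 * K⁻¹)) = (Y * x0⁻¹ * Y⁻¹) * (Y * (K * x0 * K⁻¹ * (Y⁻¹ * (K * Y * K⁻¹)))) *
          (K * Y⁻¹ * K⁻¹ * Y) := by group
      _ = (Y * x0⁻¹ * Y⁻¹) * (K * (Y * x0 * Y⁻¹ * x0⁻¹)) * (x0 * K⁻¹ * Y) := by rw [t']; group
      _ = _ := by rw [s']; group
  rcases (F.eq_iff (Q.mul_mem (Q.inv_mem h0) (F.conj k h0)) hx).1 (by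
    rw [F.add (Q.inv_mem h0) (F.conj k h0), F.inv h0, F.act k x0 h0, hk, OG.mul_apply, refl_of_perp w2, refl_ap a3, w3,
      one_smul, ← add_assoc, W_add, zero_add]) with f | f <;> rw [f]
  exacts [r, r.mul_right (mem_cent1.1 y.2)]

theorem L0 (hx : x ∈ Q) (a1 : B e1 (p x) = 0) (a2 : B b (p x) = 0) : Commute y.1 x := by
  rcases z2 (S (p x)) with a3 | a3
  · obtain ⟨t, ht, rfl⟩ := F.surj b
    have := (F.L0' h hu hy hb h1 e (Q.mul_mem hx ht) (by rw [F.add hx ht, B_add, a1, hb, add_zero])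
      (by rw [F.add hx ht, B_add, a2, B_self, add_zero])
      (by rw [F.add hx ht, S_add, a3, h1, B_comm, a2]; rfl)).mul_right (F.L0' h hu hy hb h1 e ht hb (B_self _) h1).inv_right
    rwa [mul_inv_cancel_right] at this
  · exact F.L0' h hu hy hb h1 e hx a1 a2 a3

theorem sq_u : y.1 * y.1 = u := (h.hP.sq _ hy).resolve_left fun y2 => by
  obtain ⟨w, hw⟩ := nd.exists_eq_one e1_ne
  obtain ⟨q, hq, rfl⟩ := F.surj w
  have m := Q.mul_mem (Q.inv_mem hq) (F.conj y hq)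
  have pd : p (q⁻¹ * (y.1 * q * y.1⁻¹)) = (B b (p q) + 1) • e1 + b := by
    rw [F.add (Q.inv_mem hq) (F.conj y hq), F.inv hq, F.act y q hq, e, eich_ap Se1 hb, h1, show B e1 (p q) = 1 from hw,
      mul_one, one_smul, ← add_assoc, ← add_assoc, W_add, zero_add]
  have c := F.L0 h hu hy hb h1 e m (by rw [pd, B_add, hb, B, QuadraticMap.polar_smul_right, ← B, B_self]; simp)
    (by rw [pd, B_add, B_self]; simp [B_comm b, hb])
  have d := F.sq1 m (by rw [pd, add_comm, quad_add_smul_of_perp Se1 hb, h1])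
  refine F.es.z1 (d.symm.trans ?_)
  calc _ = q⁻¹ * (y.1 * q * y.1⁻¹) * (y.1 * (q⁻¹ * (y.1 * q * y.1⁻¹)) * y.1⁻¹) := by rw [cj_eq_iff_comm.2 c]
    _ = q⁻¹ * (y.1 * y.1) * q * (y.1 * y.1)⁻¹ := by group
    _ = 1 := by rw [y2]; group

theorem L1 : ∃ c, (c = u ∨ c = u * z) ∧ ∀ x ∈ Q, Commute x u → y.1 * x * y.1⁻¹ = x ∨ y.1 * x * y.1⁻¹ = x * c := by
  obtain ⟨w, w1, w2⟩ := (G5 hb).2.1 h1
  obtain ⟨t, ht, rfl⟩ := F.surj w
  have m := Q.mul_mem (Q.inv_mem ht) (F.conj y ht)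
  have hc := (F.eq_iff h.sQ m).1 (by
    rw [F.add (Q.inv_mem ht) (F.conj y ht), F.inv ht, F.act y t ht, e, eich_ap Se1 hb, w1, w2, hu]
    simp [← add_assoc, W_add])
  refine ⟨_, hc, fun x hx c => ?_⟩
  have x1 := (F.cu h hu hx).2 c
  rcases z2 (B b (p x)) with a | a
  · exact .inl (cj_eq_iff_comm.2 (F.L0 h hu hy hb h1 e hx x1 a))
  · have k := F.L0 h hu hy hb h1 e (Q.mul_mem (Q.inv_mem ht) hx)
      (by rw [F.add (Q.inv_mem ht) hx, F.inv ht, B_add, w1, x1, add_zero])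
      (by rw [F.add (Q.inv_mem ht) hx, F.inv ht, B_add, w2, a]; rfl)
    have cc : ∀ s ∈ Q, Commute s u → Commute s (t⁻¹ * (y.1 * t * y.1⁻¹)) := fun s hs k => by
      rcases hc with f | f <;> rw [f]
      exacts [k, k.mul_right (F.es.zc s hs)]
    right
    rw [(cc x hx c).eq, ← cj_eq_iff_comm.2 (cc t ht ((F.cu h hu ht).1 w1))]
    calc _ = y.1 * t * y.1⁻¹ * (y.1 * (t⁻¹ * x) * y.1⁻¹) := by group
      _ = _ := by rw [cj_eq_iff_comm.2 k]; group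

theorem L2 : ∀ x ∈ Q, Commute x u → y.1 * x * y.1⁻¹ = x ∨ y.1 * x * y.1⁻¹ = x * (u * z) := by
  obtain ⟨c, rfl | rfl, H⟩ := F.L1 h hu hy hb h1 e
  swap
  · exact H
  exfalso
  obtain ⟨n, n1, n2, n3, n4⟩ := swap h
  have i1 : n⁻¹ * c * n = z := by rw [← n1]; group
  have i2 : n⁻¹ * z * n = c := by rw [← n2]; group
  have yz : Commute y.1 z := mem_cent1.1 y.2
  have K : ∀ (s : C1[z]) (a : W), s.1 ∈ P → B e1 a = 0 → S a = 1 → μ s = eich S e1 a → Commute y.1 (n⁻¹ * s * n) :=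
    fun s a hs a1 a2 a3 => by
    have sz : Commute s.1 z := mem_cent1.1 s.2
    have cu : Commute (n⁻¹ * s * n) c := by
      rw [← i2]; simpa using sz.map (MulAut.conj n⁻¹)
    refine cj_eq_iff_comm.1 ((H _ (mem_cj.1 (n3 ▸ hs)) cu).resolve_right fun k => ?_)
    obtain ⟨d, hd, H'⟩ := F.L1 h hu hs a1 a2 a3
    have k2 := H' (n * y.1 * n⁻¹) (n4 ▸ mem_cj'.2 ⟨_, hy, rfl⟩) (by rw [← n1]; simpa using yz.map (MulAut.conj n))
    have k3 : s.1 * (n * y.1 * n⁻¹) * s.1⁻¹ = n * y.1 * n⁻¹ * z := by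
      have : n⁻¹ * s * n * y.1 * (n⁻¹ * s * n)⁻¹ = y.1 * c := by
        have k' : y.1 * (n⁻¹ * s * n) = n⁻¹ * s * n * c * y.1 := by rw [← k]; group
        have cc := h.hP.toES.zz
        rw [(h.hP.zc _ hy).eq, mul_inv_eq_iff_eq_mul, mul_assoc c, k', cu.eq, ← mul_assoc, ← mul_assoc, cc, one_mul]
      refine Eq.trans ?_ (congrArg _ n2)
      rw [conj_mul, ← this]; group
    rw [k3, mul_eq_left, mul_right_inj] at k2
    rcases k2 with k2 | k2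
    · exact F.es.z1 k2
    · rcases hd with rfl | rfl
      · exact h.ne k2.symm
      · exact h.hP.toES.z1 (mul_eq_right.1 k2.symm)
  obtain ⟨w, w1, w2⟩ := (G5 hb).2.1 h1
  obtain ⟨t, ht, rfl⟩ := F.surj w
  let s : C1[z] := ⟨n * t * n⁻¹, mem_cent1.2 (by
    rw [← n2]; simpa using (((F.cu h hu ht).1 w1).map (MulAut.conj n)).eq)⟩
  have hs : s.1 ∈ P := n3 ▸ mem_cj'.2 ⟨_, ht, rfl⟩
  obtain ⟨a, a1, a2⟩ := F.ex_b h hu hs
  have ct : Commute y.1 (n⁻¹ * s * n) := by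
    rcases z2 (S a) with a3 | a3
    · obtain ⟨d, d1, d2, d3⟩ := (G5 a1).1
      obtain ⟨r, r1, r2⟩ := F.onto h hu d2
      have := (K r d r1 d2 d1 r2).mul_right (K (r⁻¹ * s) (d + a) (P.mul_mem (P.inv_mem r1) hs)
        (by rw [B_add, d2, a1, add_zero]) (by rw [S_add, d1, a3, B_comm, d3]; rfl)
        (by rw [map_mul, map_inv, r2, a2, eich_add Se1 d2 a1, ← eich_neg Se1 d2, W_neg]))
      rwa [coe_mul, coe_inv, show n⁻¹ * r.1 * n * (n⁻¹ * (r.1⁻¹ * s.1) * n) = n⁻¹ * s.1 * n by group] at this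
    · exact K s a hs a1 a3 a2
  rw [show n⁻¹ * s * n = t by simp [s, mul_assoc]] at ct
  have := F.act y t ht
  rw [cj_eq_iff_comm.2 ct, e, eich_ap Se1 hb, w1, w2] at this
  exact e1_ne (by simpa using this)

end Fr

theorem Fr.star (F : Fr z Q p μ) (hc : IsConj z u) (hu : u ∈ Q) (hne : u ≠ z) (hb : B (p u) b = 0) (h1 : S b = 1) :
    ∃ y : C1[z], μ y = eich S (p u) b ∧ y.1 * y.1 = u ∧
      ∀ x ∈ Q, Commute x u → y.1 * x * y.1⁻¹ = x ∨ y.1 * x * y.1⁻¹ = x * (u * z) := by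
  obtain ⟨g, rfl⟩ := isConj_iff.1 hc
  have h := F.le.pair (by rw [F.card]; decide) hu hne
  obtain ⟨σ, -, hσ⟩ := exists_move ((F.sq hu).2 h.hP.toES.zz) (by
    rw [Ne, F.p0 hu, not_or]; exact ⟨h.hP.toES.z1, hne⟩)
  have b1 : B e1 (σ.1 b) = 0 := by rw [← hσ, B, OG.map_polar]; exact hb
  have b2 := (OG.map_Q σ b).trans h1
  obtain ⟨y, hy, e⟩ := (F.twist σ).onto h hσ b1
  refine ⟨y, (MulAut.conj σ).injective (e.trans ?_), (F.twist σ).sq_u h hσ hy b1 b2 e, (F.twist σ).L2 h hσ hy b1 b2 e⟩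
  rw [MulAut.conj_apply, conj_eich, hσ]

end Cfsg.Agent.Co1A
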