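import Cfsg.Agent.Co1T.Bc0

/-! `bcore`: an automorphism of `V0` normalising the action of `C_{N0}(z0, u0)` is induced by `N0`. -/

set_option autoImplicit false
set_option maxRecDepth 100000

namespace Cfsg.Agent.Co1T.Bc

open Subgroup Cfsg.Agent.Comp Cfsg.Agent.Golay MulAction
open scoped Pointwise symmDiff

abbrev KT : Subgroup MG := stabilizer MG oct0 ⊓ stabilizer MG oct1

def gK : List ℕ := [133193856055859448755754648906175520, 590883259375226642965058567331154080,
  984806823288735101514964346924480608, 610770033661999503816034616578115104, 606754002584042917983327311969207459]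

def gD : List ℕ := [9883253425552269378469726464937710, 225482850434140373141208923834369760,
  152660807278499536716794450451928802, 141747051298134788426896233668837847, 133076196621548118316656098042451031,
  100813979499602016147842272747619351, 93028575380645994227925247439583329, 47284217993032943223262025471820241,
  25568686584670797001140443912013879, 47602323197725890978489344939164386, 134374341405839054891719569627874464,
  606869556994587725785619647599526999, 100734696945008953747646909761674241, 232655340065720239240502027510057505]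

theorem codes_gK : CodesIn RM gK KT := (codesOct (by decide +kernel)).stab kCw oct1_P (by decide +kernel)

theorem codes_gD : CodesIn RM gD KT := (codesOct (by decide +kernel)).stab kCw oct1_P (by decide +kernel)

theorem card_KT : Nat.card KT = 10752 := card_inf_stabilizer_of_orbit os_Oct_oct_1 (by decide) card_Oct

theorem closure_gK : closure (genSet RM gK) = KT := closureM codes_gK [0, 4, 8, 1, 2] [] card_KT (by decide +kernel)

noncomputable def cv (σ : MG) (v : V0) : V0 := ⟨pm1 σ * v * (pm1 σ)⁻¹, V0_conj (pm1_mem σ) v.2⟩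

theorem cv_one (v : V0) : cv 1 v = v := Subtype.ext (by simp [cv])

theorem cv_mul (σ τ : MG) (v : V0) : cv (σ * τ) v = cv σ (cv τ v) := Subtype.ext (by simp [cv, mul_assoc])

def actI (c i : ℕ) : ℕ := nr (img24 c (gE i))

theorem idx_act (c i : ℕ) : idx (ev (actI c i)) = actI c i := idx_ev (nr_lt _)

theorem cv_ev {c : ℕ} {σ : MG} (h : RM c σ) (i : ℕ) : cv σ (ev i) = ev (actI c i) :=
  Subtype.ext (((eps_conj σ _).trans (eps_congr (h.smul_ofMask _))).trans (ev_nr (isG_imgP h σ.2 (isG_gE i)) _).symm)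

def labT : ℕ := 0x2312315e311128d8c52527513e5111653d361118e5186186521115e81576565c2231e31521235e56328e252678e5577625e58616518e186627755e372656e368823e252613e551162287e87527285e5621155e812656e86325e53676573e7366c52521578e5777652872875e877723d3527775e37516565c8d867773e57367363373351d355738e6c13537552e5515852e387558d1588788535155e65578581c3685e25565381e58882e856353e7555235e13852556e532865557e858253e633332e356858e155528635e25565837e5365551e353258e68885e78352556e5823c78581552e5575358818857d855183e6585755e65513537c2e831553d7533133363d313873e515583325e37585365e5235515e873818d82865e52853578e5688c56535753e5755818258815e255568e3135575e85758525c8e325556e51335633253375e255563e8c56585158e5155373e825556e5788568785515e35153525c8825e81535865e52868d878318e5755365e52358513e563385575e318373d323336e673253d777786867e65537627e5837777d856872e28835e76278552e7232c73565776e5557216656351e611583e2167555e27752587c6e835112e15825226656857e677538e2c18565116e5551276e385772e7532522761555e21152531c6361e65581621e53886e618258d1111385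e16213552e128281111d356312e2333337d35135685e18233e653852e5575331e53258158d788885755e653852e8866853255e375536e8c58785518e1555253e285578e5568532565551e31553735cc53135573e7555256358255e815586e3565557e87558185c8e235513e5563582288e658352e551588881d85785635e7335155e658352e33687e58253753d13336335e67737387d72666e358276e7557867d73878772e588237557e276358e2223356677e857562e2c16765556e1151356e625753e7722588581511e25552721cc76165556e7757858856611e351562e2537577e25552127c6e625158e1122533666e853216e155136885e61181831d1281551e216853e22261d18313112e5332c53767753d7577873616655e657732e8737757d85772785c3e687752e5522128633e376256e515726665e85761825e1367515e256278e88281e56312753e52226665e35167325e78688e816256e5751237e56872158e522261575e256213e3328676655e651182e3c58161158d1511318e631152e5522723181151d35112135cb7673777647775276673677467516242765777427778727a6462157247728722666461687647775286614611656214726577742732124222674162521124122336674677656274126664676316411152614762527724722865111421827242226618611461576242916181116411152164627512411231221651114211131210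

def lab (i : ℕ) : ℕ := get 4 15 labT i

def rep (k : ℕ) : ℕ := nthL 0 [0, 1, 2, 4, 9, 13, 14, 27, 43, 47, 208, 255, 256, 265, 279] k

theorem lab_inv {σ : MG} (h : σ ∈ KT) (v : V0) : lab (idx (cv σ v)) = lab (idx v) := by
  rw [← closure_gK] at h
  induction h using closure_induction generalizing v with
  | mem σ h =>
    obtain ⟨c, hc, h⟩ := h
    rw [← ev_idx v, cv_ev h, idx_ev (idx_lt v), idx_act]
    exact nbeq.1 (allLt_iff.1 (allL_iff.1 (by decide +kernel :
      allL gK (fun c => allLt 2048 fun i => Nat.beq (lab (actI c i)) (lab i)) = true) c hc) _ (idx_lt v))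
  | one => rw [cv_one]
  | mul σ τ _ _ h1 h2 => rw [cv_mul, h1, h2]
  | inv σ _ h => rw [← h (cv σ⁻¹ v), ← cv_mul, mul_inv_cancel, cv_one]

/-- the orbit relation. -/
def RK (v w : V0) : Prop := ∃ σ ∈ KT, cv σ v = w

theorem RK.symm {v w : V0} : RK v w → RK w v := fun ⟨σ, h, e⟩ =>
  ⟨σ⁻¹, inv_mem h, by rw [← e, ← cv_mul, inv_mul_cancel, cv_one]⟩

theorem RK.trans {u v w : V0} : RK u v → RK v w → RK u w := fun ⟨σ, h, e⟩ ⟨τ, h', e'⟩ =>
  ⟨τ * σ, mul_mem h' h, by rw [cv_mul, e, e']⟩

theorem RK_rep (i : ℕ) (hi : i < 2048) : RK (ev i) (ev (rep (lab i))) := by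
  induction i using Nat.strong_induction_on with | _ i ih => ?_
  have := allLt_iff.1 (by decide +kernel : allLt 2048 (fun i => bor (Nat.beq (rep (lab i)) i)
    (anyL gD fun c => Nat.blt (actI c i) i)) = true) i hi
  rw [bor_eq, Bool.or_eq_true, nbeq, anyL_iff] at this
  rcases this with e | ⟨c, hc, e⟩
  · exact ⟨1, one_mem _, by rw [e, cv_one]⟩
  · obtain ⟨σ, h, r⟩ := codes_gD c hc
    have := lab_inv h (ev i)
    rw [cv_ev r, idx_ev hi, idx_act] at this
    exact RK.trans ⟨σ, h, cv_ev r i⟩ (this ▸ ih _ (nblt.1 e) (nr_lt _))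

theorem RK_iff {v w : V0} : RK v w ↔ lab (idx w) = lab (idx v) :=
  ⟨fun ⟨_, h, e⟩ => e ▸ lab_inv h v, fun e => by
    have := (RK_rep _ (idx_lt v)).trans (e ▸ RK_rep _ (idx_lt w)).symm
    rwa [ev_idx, ev_idx] at this⟩

noncomputable def cnt (v : V0) : ℕ := {w | RK v w ∧ ¬ RK v (v * w)}.ncard

theorem cnt_map {f : V0 → V0} (hf : Function.Bijective f) (hm : ∀ v w, f (v * w) = f v * f w)
    (h : ∀ v w, RK (f v) (f w) ↔ RK v w) (v : V0) : cnt (f v) = cnt v := by
  refine (Set.ncard_congr (fun w _ => f w) (fun w hw => ?_) (fun _ _ _ _ e => hf.1 e) fun w hw => ?_).symm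
  · exact ⟨(h _ _).2 hw.1, by rw [← hm, h]; exact hw.2⟩
  · obtain ⟨w, rfl⟩ := hf.2 w
    exact ⟨w, ⟨(h _ _).1 hw.1, by rw [← h, hm]; exact hw.2⟩, rfl⟩

def cntI (i : ℕ) : ℕ := countLt 2048 fun j => band (Nat.beq (lab j) (lab i)) (not (Nat.beq (lab (Nat.xor i j)) (lab i)))

theorem cnt_ev {i : ℕ} (hi : i < 2048) : cnt (ev i) = cntI i := by
  rw [cntI, countLt_eq, ← Set.ncard_coe_finset]
  refine Set.ncard_congr (fun w _ => idx w) (fun w hw => ?_) (fun v w _ _ e => by rw [← ev_idx v, e, ev_idx])
    fun j hj => ?_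
  · simp only [Set.mem_ofPred_eq, RK_iff, idx_mul, idx_ev hi] at hw
    simp only [Finset.coe_filter, Finset.mem_range, band_eq, Bool.and_eq_true, Bool.not_eq_true', nbeq, nbeq_false]
    exact ⟨idx_lt w, hw⟩
  · simp only [Finset.coe_filter, Finset.mem_range, band_eq, Bool.and_eq_true, Bool.not_eq_true', nbeq, nbeq_false,
      Set.mem_ofPred_eq] at hj
    refine ⟨ev j, ?_, idx_ev hj.1⟩
    simp only [Set.mem_ofPred_eq, RK_iff, idx_mul, idx_ev hi, idx_ev hj.1]
    exact hj.2

def fC (n : ℕ) : ℤ := if n = 0 then 576 else if n = 1 ∨ n = 4 ∨ n = 176 then 64 else 0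

theorem FF_cnt (v : V0) : FF v = fC (cnt v) := by
  obtain ⟨σ, h, e⟩ := RK_rep _ (idx_lt v)
  have k : ∀ k < 16, rep k < 2048 ∧ (24 - 2 * (pc24 (gE (rep k)) : ℤ)) ^ 2 = fC (cntI (rep k)) := by decide +kernel
  have := k (lab (idx v)) (get_lt (w := 4) rfl _ _)
  rw [ev_idx] at e
  rw [← cnt_map (f := cv σ) (Finite.injective_iff_bijective.1 fun v w e => by
      rw [← cv_one v, ← inv_mul_cancel σ, cv_mul, e, ← cv_mul, inv_mul_cancel, cv_one])
    (fun v w => Subtype.ext (by simp [cv])) (fun v w => by rw [RK_iff, RK_iff, lab_inv h, lab_inv h]), e,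
    cnt_ev this.1, ← this.2, ← card_ofMask24, ← FF_eq (v := ev _) (gE_mem _) rfl, ← e,
    FF_eq (v := cv σ v) (inv_supp σ _ (wd_mem v)) (by rw [← eps_conj σ (wd_mem v), eps_wd]; rfl), Finset.card_smul_finset, FF]

theorem RK_iff' {v w : V0} : RK v w ↔ ∃ y ∈ N0, Commute y z0 ∧ Commute y u0 ∧ (w : CC) = y * v * y⁻¹ := by
  have k : ∀ {σ : MG} {o} (ho : o ∈ octads), Commute (pm1 σ) (eps o ho.1) ↔ σ ∈ stabilizer MG o := fun {σ o} ho => by
    rw [commute_iff_eq, ← mul_inv_eq_iff_eq_mul, eps_conj, eq_comm, eps_eq_iff]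
    refine ⟨fun h => h.resolve_right fun e => ?_, Or.inl⟩
    have := congrArg Finset.card e
    rw [Finset.card_smul_finset, Finset.card_compl, card_pt, ho.2] at this
    omega
  refine ⟨fun ⟨σ, h, e⟩ => ⟨_, pm1_mem σ, (k oct0_mem).2 h.1, (k oct1_mem).2 h.2, e ▸ rfl⟩, fun ⟨y, hy, h1, h2, e⟩ => ?_⟩
  obtain ⟨c, hc, σ, rfl⟩ := mem_N0.1 hy
  have j : ∀ {x}, x ∈ V0 → Commute (eps c hc * pm1 σ) x → Commute (pm1 σ) x := fun hx h => by
    have := (Commute.inv_left (V0_comm (eps_mem hc) hx)).mul_left h
    rwa [inv_mul_cancel_left] at this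
  refine ⟨σ, ⟨(k oct0_mem).1 (j z0_V h1), (k oct1_mem).1 (j u0_V h2)⟩, Subtype.ext (e.trans ?_).symm⟩
  rw [mul_inv_rev, ← mul_assoc, mul_inv_eq_iff_eq_mul, ← V0_comm (eps_mem hc) (cv σ v).2]
  simp only [cv, mul_assoc]

theorem _root_.Cfsg.Agent.Co1T.bcore (a : V0 ≃* V0)
    (h : ∀ y ∈ N0, Commute y z0 → Commute y u0 → ∃ y' ∈ N0, Commute y' z0 ∧ Commute y' u0 ∧
      ∀ v w : V0, (w : CC) = y * v * y⁻¹ → (a w : CC) = y' * (a v) * y'⁻¹)
    (h' : ∀ y ∈ N0, Commute y z0 → Commute y u0 → ∃ y' ∈ N0, Commute y' z0 ∧ Commute y' u0 ∧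
      ∀ v w : V0, (w : CC) = y * v * y⁻¹ → (a.symm w : CC) = y' * (a.symm v) * y'⁻¹) :
    ∃ k ∈ N0, ∀ v : V0, (a v : CC) = k * v * k⁻¹ := by
  refine of_FF a fun v => (FF_cnt _).trans ((congrArg fC (cnt_map a.bijective (map_mul a) (fun v w => ?_) v)).trans
    (FF_cnt v).symm)
  rw [RK_iff', RK_iff']
  constructor <;> rintro ⟨y, hy, h1, h2, e⟩
  · obtain ⟨y', hy', h3, h4, e'⟩ := h' y hy h1 h2
    exact ⟨y', hy', h3, h4, by simpa using e' _ _ e⟩
  · obtain ⟨y', hy', h3, h4, e'⟩ := h y hy h1 h2
    exact ⟨y', hy', h3, h4, e' _ _ e⟩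

end Cfsg.Agent.Co1T.Bc
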