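import Cfsg.Agent.Mon.Shape
import Cfsg.Agent.Mon.Cent
import Cfsg.Agent.Golay.Classes

/-! Notation for the 2-local subgroups of the first Conway group (helper23). -/

set_option autoImplicit false
set_option maxRecDepth 100000

namespace Cfsg.Agent.Co1T

open Subgroup Cfsg.Agent.Comp Cfsg.Agent.Leech Cfsg.Agent.Golay Cfsg.Agent.Mon
open scoped Pointwise

abbrev CC : Type := Cfsg.Spor.Co1

/-- The sign change on a code word. -/
noncomputable def eps (c : Finset GolayPt) (hc : c ∈ GSupp) : CC := mk1 (sg c hc)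

/-- Coordinate permutations. -/
noncomputable def pm1 : MG →* CC := mk1.comp pm

noncomputable def N0 : Subgroup CC := NN.map mk1

noncomputable def V0 : Subgroup CC := SG.map mk1

noncomputable def z0 : CC := eps oct0 oct0_mem.1

noncomputable def u0 : CC := eps oct1 oct1_mem.1

noncomputable def t0 : CC := eps dod0 dod0_mem.1

def cg0 : ℕ := 269206323752930775996406009130866279

/-- An element of order 3 permuting the three octads of the standard trio. -/
noncomputable def γ0 : MG := elt cg0 (by decide +kernel)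

noncomputable def g0 : CC := pm1 γ0

noncomputable abbrev H0 : Subgroup CC := centralizer ({z0} : Set CC)

/-- The pointwise stabiliser of the span of the standard octad. -/
def Qt : Subgroup CG where
  carrier := {g | ∀ i ∈ oct0, g • e8 i = e8 i}
  one_mem' := fun _ _ => one_smul _ _
  mul_mem' := fun ha hb i hi => by rw [mul_smul, hb i hi, ha i hi]
  inv_mem' := fun ha i hi => inv_smul_eq_iff.2 (ha i hi).symm

noncomputable def Q0 : Subgroup CC := Qt.map mk1

noncomputable def Q1 : Subgroup H0 := Q0.subgroupOf H0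

def cS : ℕ := 7262739

theorem cS_mem : EG.ofMask cS ∈ GSupp := (ofMask_mem_supports_iff (by decide)).2 (by decide +kernel)

/-- A monomial element with square `-1`. -/
noncomputable def s1 : CG := sg _ cS_mem * pm zB

noncomputable def s0 : CC := mk1 s1

def cX : ℕ := 0x2020100804020100804030100804020100804020100806020100c04030100804020100804020100804020100802010100404020100804020180802020100404020080804020100804020100804020100804020100c04010100802020100804020100404020100804020100804020080806020100404020080804020100804020100804020100804020100404030100802020100804020100404020100804020100804020100804020180804020100804020100804020080804010080804020080802020100c04020080804020100804020100804020100804020100404010100806020100804020100404020100804020100806020100804020100804010100804020100804020100806020100c04020080802020100404020180804020100804020100804020100804020100804020100804020100c020100808040201008040201008040201008040201008040201004060100808040201008040201008040201008040201008040201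00402030080804020100804020100804020100804020100804020100402010180804020100804020100804020100404010100802020100804020100c04020100804020100804010100804020100804020100804020100806010100404020100804010100804020100804020100804020100802030100404020100804020100804020080804020100804020100804020180804010080804010100804020100804020100804020100802010100c04020100806020100804020100804030100804020100804020100802020100c040201008040200808040201008040201008040200808040300808040201008040200808040201008040201008040200808040101808060201008040201008040301008040201008040201008060201004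

/-- The sextet involution. -/
noncomputable def X1 : CG := eltC cX (by decide +kernel)

noncomputable def T : CC := mk1 X1

theorem rX : RC cX X1 := RC_eltC _ _

theorem rγ : RM cg0 γ0 := elt_rep _ _

theorem eps_mul {c d : Finset GolayPt} (hc : c ∈ GSupp) (hd : d ∈ GSupp) :
    eps c hc * eps d hd = eps (symmDiff c d) (symmDiff_mem_supp hc hd) := by
  rw [eps, eps, ← map_mul, sg_mul]; rfl

theorem eps_congr {c d : Finset GolayPt} {hc : c ∈ GSupp} (h : c = d) : eps c hc = eps d (h ▸ hc) := by
  subst h; rfl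

theorem sg_inj {c d : Finset GolayPt} {hc : c ∈ GSupp} {hd : d ∈ GSupp} (h : sg c hc = sg d hd) : c = d :=
  (mono_inj h).2

theorem sg_neg {c : Finset GolayPt} (hc : c ∈ GSupp) : sg c hc * negC = sg cᶜ (compl_mem_supp hc) := by
  rw [negC, sg_mul]; exact mono_congr rfl (by ext i; simp [Finset.mem_symmDiff])

theorem eps_eq_iff {c d : Finset GolayPt} {hc : c ∈ GSupp} {hd : d ∈ GSupp} :
    eps c hc = eps d hd ↔ d = c ∨ d = cᶜ := by
  rw [eps, eps, mk1_eq, sg_neg]
  exact or_congr ⟨sg_inj, fun e => mono_congr rfl e⟩ ⟨sg_inj, fun e => mono_congr rfl e⟩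

theorem eps_empty : eps ∅ empty_mem_supp = 1 := (congrArg mk1 mono_one).trans (map_one _)

theorem eps_eq_one {c : Finset GolayPt} {hc : c ∈ GSupp} : eps c hc = 1 ↔ c = ∅ ∨ c = Finset.univ := by
  rw [← eps_empty, eq_comm, eps_eq_iff, Finset.compl_empty]

theorem eps_compl {c : Finset GolayPt} (hc : c ∈ GSupp) : eps cᶜ (compl_mem_supp hc) = eps c hc :=
  (eps_eq_iff.2 (Or.inr rfl)).symm

theorem eps_sq {c : Finset GolayPt} (hc : c ∈ GSupp) : eps c hc * eps c hc = 1 := by
  rw [eps, ← map_mul, sg_sq, map_one]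

theorem eps_conj (σ : MG) {c : Finset GolayPt} (hc : c ∈ GSupp) :
    pm1 σ * eps c hc * (pm1 σ)⁻¹ = eps (σ • c) (smul_mem_supports σ.2 hc) := by
  rw [eps, eps, ← sg_conj σ hc, map_mul, map_mul, map_inv]; rfl

theorem pm1_injective : Function.Injective pm1 := pm1_inj

theorem mem_V0 {v : CC} : v ∈ V0 ↔ ∃ c hc, v = eps c hc :=
  ⟨fun ⟨_, ⟨c, hc, e⟩, e'⟩ => ⟨c, hc, by rw [← e', e]; rfl⟩, fun ⟨c, hc, e⟩ => ⟨_, ⟨c, hc, rfl⟩, e.symm⟩⟩

theorem eps_mem {c : Finset GolayPt} (hc : c ∈ GSupp) : eps c hc ∈ V0 := mem_V0.2 ⟨c, hc, rfl⟩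

theorem mem_N0 {k : CC} : k ∈ N0 ↔ ∃ c hc σ, k = eps c hc * pm1 σ :=
  ⟨fun ⟨_, ⟨σ, c, hc, e⟩, e'⟩ => ⟨c, hc, σ, by rw [← e', e, ← sg_mul_pm, map_mul]; rfl⟩,
    fun ⟨c, hc, σ, e⟩ => ⟨_, mul_mem (sg_mem hc) (pm_mem σ), by rw [e, map_mul]; rfl⟩⟩

theorem mk1_mem_N0 {g : CG} : mk1 g ∈ N0 ↔ g ∈ NN := by
  refine ⟨fun ⟨k, hk, e⟩ => ?_, fun h => ⟨g, h, rfl⟩⟩
  rcases mk1_eq.1 e with rfl | rfl
  exacts [hk, mul_mem hk (sg_mem _)]

theorem mk1_mem_V0 {g : CG} : mk1 g ∈ V0 ↔ g ∈ SG := by
  refine ⟨fun ⟨k, hk, e⟩ => ?_, fun h => ⟨g, h, rfl⟩⟩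
  rcases mk1_eq.1 e with rfl | rfl
  exacts [hk, mul_mem hk neg_mem_SG]

theorem pm1_mem (σ : MG) : pm1 σ ∈ N0 := ⟨_, pm_mem σ, rfl⟩

theorem V0_le_N0 : V0 ≤ N0 := map_mono SG_le

theorem V0_conj {k v : CC} (hk : k ∈ N0) (hv : v ∈ V0) : k * v * k⁻¹ ∈ V0 := shape_Co1.2.1 k hk v hv

theorem V0_elem : IsElementaryAbelian 2 V0 := shape_Co1.2.2.1

theorem V0_comm {a b : CC} (ha : a ∈ V0) (hb : b ∈ V0) : a * b = b * a := by
  obtain ⟨x, hx, rfl⟩ := ha
  obtain ⟨y, hy, rfl⟩ := hb
  rw [← map_mul, ← map_mul, sg_comm hx hy]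

theorem V0_sq {a : CC} (ha : a ∈ V0) : a * a = 1 := by
  obtain ⟨c, hc, rfl⟩ := mem_V0.1 ha
  exact eps_sq hc

theorem card_V0 : Nat.card V0 = 2 ^ 11 := MT.card_SG1

theorem card_N0 : Nat.card N0 = 2 ^ 11 * 244823040 := card_NN1

theorem z0_V : z0 ∈ V0 := eps_mem _

theorem u0_V : u0 ∈ V0 := eps_mem _

theorem t0_V : t0 ∈ V0 := eps_mem _

theorem g0_mem : g0 ∈ N0 := pm1_mem _

theorem z0_mem : z0 ∈ H0 := mem_centralizer_singleton_iff.2 rfl

theorem V0_le_H0 : V0 ≤ H0 := fun _ hv => mem_centralizer_singleton_iff.2 (V0_comm hv z0_V)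

theorem eps_ne_one {c : Finset GolayPt} {hc : c ∈ GSupp} (h : c.card = 8 ∨ c.card = 12) : eps c hc ≠ 1 := fun e => by
  rcases eps_eq_one.1 e with rfl | rfl
  · simp at h
  · rw [Finset.card_univ, card_pt] at h; omega

theorem ord_eps {c : Finset GolayPt} {hc : c ∈ GSupp} (h : c.card = 8 ∨ c.card = 12) : orderOf (eps c hc) = 2 :=
  orderOf_eq_prime (by rw [pow_two, eps_sq]) (eps_ne_one h)

theorem ord_z0 : orderOf z0 = 2 := ord_eps (Or.inl oct0_mem.2)

theorem ord_u0 : orderOf u0 = 2 := ord_eps (Or.inl oct1_mem.2)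

theorem ord_t0 : orderOf t0 = 2 := ord_eps (Or.inr dod0_mem.2)

theorem smul_mask {c s t : ℕ} {σ : MG} (h : RM c σ) (e : Nat.beq (img24 c s) t = true) :
    σ • EG.ofMask s = EG.ofMask t := by
  rw [← nbeq.1 e]; exact h.smul_ofMask s

theorem g0_z0 : g0 * z0 * g0⁻¹ = u0 := (eps_conj _ _).trans (eps_congr (smul_mask rγ (by decide +kernel)))

theorem g0_u0 : g0 * u0 * g0⁻¹ = u0 * z0 := by
  rw [u0, z0, eps_mul, g0, eps_conj, eps_eq_iff, smul_mask (t := 1351424) rγ (by decide +kernel)]
  exact Or.inr (by decide +kernel)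

theorem u0_ne : u0 ≠ z0 := fun e => by
  rcases eps_eq_iff.1 e with e | e <;> exact absurd e (by decide +kernel)

theorem T_sq : T * T = 1 := by
  rw [T, ← map_mul, ← pow_two, pow_RC rX (by decide +kernel), map_one]

theorem T_mem : T ∈ H0 := mem_centralizer_singleton_iff.2 (by
  rw [T, z0, eps, ← map_mul, ← map_mul]
  exact congrArg mk1 ((commC_iff grpC canC rX (RC_sgC oct0_mem.1)).2 (by decide +kernel)))

theorem T_u0 : T * u0 = u0 * T := by
  rw [T, u0, eps, ← map_mul, ← map_mul]
  exact congrArg mk1 ((commC_iff grpC canC rX (RC_sgC oct1_mem.1)).2 (by decide +kernel))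

theorem s0_mem : s0 ∈ N0 := ⟨_, mul_mem (sg_mem _) (pm_mem _), rfl⟩

theorem r_s1 : RC (mulC (sgC cS) (pmC cB)) s1 := grpC.mul (RC_sgC cS_mem) (RC_pmC rep_zB.1)

theorem r_neg : RC (sgC (2 ^ 24 - 1)) negC := by
  have := RC_sgC (s := 2 ^ 24 - 1) (EG.ofMask_full ▸ univ_mem_supp)
  convert this using 1
  exact mono_congr (hc := univ_mem_supp) rfl EG.ofMask_full.symm

theorem s1_sq : s1 * s1 = negC := canC.func (grpC.mul r_s1 r_s1) (by
  rw [show mulC (mulC (sgC cS) (pmC cB)) (mulC (sgC cS) (pmC cB)) = sgC (2 ^ 24 - 1) by decide +kernel]; exact r_neg)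

theorem ord_s0 : orderOf s0 = 2 := orderOf_eq_prime (by rw [pow_two, s0, ← map_mul, s1_sq, mk1_neg]) fun e => by
  rcases mk1_eq_one.1 e with e | e
  · exact negC_ne (by rw [← s1_sq, e, one_mul])
  · exact negC_ne (by rw [← s1_sq, e, negC_sq])

end Cfsg.Agent.Co1T
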