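import Cfsg.Agent.Co1T.A0

/-! `cox_split`: splitting of central extensions of `Ω⁺(8,2)` by the Coxeter presentation of `W(E₈)`. -/

set_option autoImplicit false
set_option maxRecDepth 100000
set_option synthInstance.maxSize 4096

namespace Cfsg.Agent.Co1A

open Cfsg.Agent.Geom Subgroup CoxeterMatrix

theorem card_E8 : Nat.card E₈.Group = 696729600 := by
  obtain ⟨e, -⟩ := Chev.coxE8
  rw [← Nat.card_congr e.toEquiv, Chev.card_WGE8]

theorem w0_ne : ¬ Commute (wr.map E₈.simple).prod (wt.map E₈.simple).prod := fun h => by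
  obtain ⟨e, he⟩ := Chev.coxE8
  have k : ∀ l : List (Fin 8), (l.map E₈.simple).prod = e (Chev.wd Lie.chevE8 (l.map Fin.val)) := fun l => by
    refine Eq.trans ?_ (congrArg e (Chev.wd_map (D := Lie.chevE8) l)).symm
    rw [map_list_prod]
    exact congrArg List.prod ((congrArg (l.map ·) (funext fun i => (he i).symm)).trans List.map_map.symm)
  have : ((wr ++ wt ++ wr ++ wt).map E₈.simple).prod = ((wr ++ wr ++ wt ++ wt).map E₈.simple).prod := by
    simp only [List.map_append, List.prod_append, mul_assoc]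
    rw [← mul_assoc (wt.map _).prod, ← h.eq, mul_assoc]
  rw [k, k, e.injective.eq_iff] at this
  have := congrArg (fun w => ((w • (⟨0, by decide⟩ : Chev.Rt Lie.chevE8) : Chev.Rt Lie.chevE8) : ℕ)) this
  rw [Chev.isReflE8.wd_smul (by decide), Chev.isReflE8.wd_smul (by decide)] at this
  revert this; decide +kernel

variable {E : Type*} [Group E]

def tP (y : E) : Equiv.Perm (E × Bool) :=
  Function.Involutive.toPerm (fun x => (if x.2 then y⁻¹ * x.1 else y * x.1, !x.2)) fun ⟨e, b⟩ => by cases b <;> simp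

theorem tP_f (y e : E) : tP y (e, false) = (y * e, true) := rfl
theorem tP_t (y e : E) : tP y (e, true) = (y⁻¹ * e, false) := rfl

theorem tP_pow (x y e : E) (n : ℕ) : ((tP x * tP y) ^ n) (e, false) = ((x⁻¹ * y) ^ n * e, false) ∧
    ((tP x * tP y) ^ n) (e, true) = ((x * y⁻¹) ^ n * e, true) := by
  induction n with
  | zero => simp
  | succ n ih => rw [pow_succ', Equiv.Perm.mul_apply, Equiv.Perm.mul_apply (tP x * tP y), ih.1, ih.2]
                 simp [tP_f, tP_t, pow_succ', mul_assoc]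

def ed8 : List (Fin 8 × Fin 8) :=
  [(0, 2), (2, 0), (2, 3), (3, 2), (3, 1), (1, 3), (3, 4), (4, 3), (4, 5), (5, 4), (5, 6), (6, 5), (6, 7), (7, 6)]

theorem exists_lifts (π : E →* O8) {ζ : E} (hζ : ∀ x, Commute x ζ) (ζ2 : ζ * ζ = 1)
    (hk : ∀ x, π x = 1 → x = 1 ∨ x = ζ) (hr : π.range = Om)
    (h2 : ∀ a b : W, S a = 1 → S b = 1 → B a b = 0 → a ≠ b → ∀ y, π y = refl S a * refl S b → y * y = 1) :
    ∃ Y : Fin 8 → E, (∀ i, π (Y i) = sg 0 * sg i) ∧ ∀ i j, ((Y i)⁻¹ * Y j) ^ E₈ i j = 1 := by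
  have pi : ∀ {i j x y}, π x = sg 0 * sg i → π y = sg 0 * sg j → π (x⁻¹ * y) = sg i * sg j := fun hx hy => by
    rw [map_mul, map_inv, hx, hy, mul_inv_rev, mul_assoc, inv_mul_cancel_left, sg, refl_inv]
  have st : ∀ i j, E₈ i j = 3 → ∀ y, π y = sg 0 * sg i → ∃ y', π y' = sg 0 * sg j ∧ (y⁻¹ * y') ^ 3 = 1 ∧
      (y'⁻¹ * y) ^ 3 = 1 := fun i j h y hy => by
    suffices ∃ y', π y' = sg 0 * sg j ∧ (y⁻¹ * y') ^ 3 = 1 from this.imp fun y' h => ⟨h.1, h.2, by
      rw [← inv_eq_one, ← inv_pow, mul_inv_rev, inv_inv, h.2]⟩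
    obtain ⟨y', hy'⟩ : sg 0 * sg j ∈ π.range := hr ▸ refl_mul_mem (S_aN 0) (S_aN j)
    have h3 : π ((y⁻¹ * y') ^ 3) = 1 := by rw [map_pow, pi hy hy', ← h, sg_rel]
    rcases hk _ h3 with e | e
    · exact ⟨y', hy', e⟩
    · refine ⟨y' * ζ, by rw [map_mul, ← e, h3, mul_one, hy'], ?_⟩
      rw [← mul_assoc, (hζ _).mul_pow, e, pow_succ, pow_two, ζ2, one_mul, ζ2]
  have h0 : π 1 = sg 0 * sg 0 := by rw [sg_sq, map_one]
  obtain ⟨y2, a2, b2, c2⟩ := st 0 2 rfl _ h0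
  obtain ⟨y3, a3, b3, c3⟩ := st 2 3 rfl _ a2
  obtain ⟨y1, a1, b1, c1⟩ := st 3 1 rfl _ a3
  obtain ⟨y4, a4, b4, c4⟩ := st 3 4 rfl _ a3
  obtain ⟨y5, a5, b5, c5⟩ := st 4 5 rfl _ a4
  obtain ⟨y6, a6, b6, c6⟩ := st 5 6 rfl _ a5
  obtain ⟨y7, a7, b7, c7⟩ := st 6 7 rfl _ a6
  let Y : Fin 8 → E := ![1, y1, y2, y3, y4, y5, y6, y7]
  have hY : ∀ i, π (Y i) = sg 0 * sg i := fun i => by fin_cases i <;> assumption
  refine ⟨Y, hY, fun i j => ?_⟩
  have : ∀ i j : Fin 8, i = j ∨ (E₈.M i j = 2 ∧ bN (aN i) (aN j) = 0 ∧ aN i ≠ aN j) ∨ (E₈.M i j = 3 ∧ (i, j) ∈ ed8) := by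
    intro i j; fin_cases i <;> fin_cases j <;> decide +kernel
  rcases this i j with rfl | ⟨e, f, g⟩ | ⟨e, f⟩
  · rw [inv_mul_cancel, one_pow]
  · rw [e, pow_two]
    exact h2 _ _ (S_aN i) (S_aN j) ((B0 (aN_ok i).1 (aN_ok j).1).2 f) (fun h => g (cv_inj (aN_ok i).1 (aN_ok j).1 h)) _
      (pi (hY i) (hY j))
  · rw [e]
    simp only [ed8, List.mem_cons, Prod.mk.injEq, List.not_mem_nil, or_false] at f
    rcases f with f | f | f | f | f | f | f | f | f | f | f | f | f | f <;> obtain ⟨rfl, rfl⟩ := f <;> assumption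

theorem cox_split [Finite E] (π : E →* O8) {ζ : E} (hζ : ∀ x, Commute x ζ) (ζ2 : ζ * ζ = 1)
    (hk : ∀ x, π x = 1 → x = 1 ∨ x = ζ) (hr : π.range = Om)
    (h2 : ∀ a b : W, S a = 1 → S b = 1 → B a b = 0 → a ≠ b → ∀ y, π y = refl S a * refl S b → y * y = 1)
    (hc : ∀ x y, π x = rr → π y = tt → Commute x y) :
    ∃ K : Subgroup E, (∀ k ∈ K, π k = 1 → k = 1) ∧ ∀ g ∈ Om, ∃ k ∈ K, π k = g := by
  obtain ⟨Y, hY, rel⟩ := exists_lifts π hζ ζ2 hk hr h2
  have l1 : E₈.IsLiftable fun i => tP (Y i) := fun i j => Equiv.ext fun ⟨e, b⟩ => by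
    cases b
    · rw [(tP_pow _ _ _ _).1, rel, one_mul]; rfl
    · rw [(tP_pow _ _ _ _).2, show Y i * (Y j)⁻¹ = Y i * ((Y j)⁻¹ * Y i) * (Y i)⁻¹ by group, conj_pow, E₈.symmetric, rel]
      simp
  let Λ := E₈.toCoxeterSystem.lift ⟨_, l1⟩
  let ρ := E₈.toCoxeterSystem.lift ⟨sg, sg_rel⟩
  have hΛ : ∀ i, Λ (E₈.simple i) = tP (Y i) := E₈.toCoxeterSystem.lift_apply_simple l1
  have hρ : ∀ i, ρ (E₈.simple i) = sg i := E₈.toCoxeterSystem.lift_apply_simple sg_rel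
  have inv : ∀ w, ∃ a, ((∀ e, Λ w (e, false) = (a * e, false)) ∧ π a = ρ w) ∨
      ((∀ e, Λ w (e, false) = (a * e, true)) ∧ π a = sg 0 * ρ w) := fun w => by
    induction w using E₈.toCoxeterSystem.simple_induction_left with
    | one => exact ⟨1, .inl ⟨by simp, by simp⟩⟩
    | mul_simple_left w i ih => ?_
    obtain ⟨a, ⟨h, h'⟩ | ⟨h, h'⟩⟩ := ih <;> rw [toCoxeterSystem_simple, map_mul, map_mul, hΛ, hρ]
    · exact ⟨Y i * a, .inr ⟨fun e => by simp [h, tP_f, tP_t, mul_assoc], by rw [map_mul, hY, h', mul_assoc]⟩⟩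
    · refine ⟨(Y i)⁻¹ * a, .inl ⟨fun e => by simp [h, tP_f, tP_t, mul_assoc], ?_⟩⟩
      rw [map_mul, map_inv, hY, h', mul_inv_rev, mul_assoc, inv_mul_cancel_left, sg, refl_inv]
  have fin : Finite E₈.Group := Nat.finite_of_card_ne_zero (by rw [card_E8]; decide)
  have ev : ∀ w, (Λ w (1, false)).2 = false → (∀ e, Λ w (e, false) = ((Λ w (1, false)).1 * e, false)) ∧
      π (Λ w (1, false)).1 = ρ w := fun w hw => by
    obtain ⟨a, ⟨h, h'⟩ | ⟨h, h'⟩⟩ := inv w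
    · rw [h 1, mul_one]; exact ⟨h, h'⟩
    · rw [h] at hw; cases hw
  let P : Subgroup E₈.Group :=
    { carrier := {w | (Λ w (1, false)).2 = false}
      one_mem' := by simp
      mul_mem' := fun {a b} ha hb => by
        show (Λ (a * b) (1, false)).2 = false
        rw [map_mul, Equiv.Perm.mul_apply, (ev b hb).1, (ev a ha).1]
      inv_mem' := fun {a} ha => by
        have := (ev a ha).1 (Λ a (1, false)).1⁻¹
        rw [mul_inv_cancel, ← Equiv.Perm.eq_inv_iff_eq, ← map_inv] at this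
        show (Λ a⁻¹ (1, false)).2 = false
        rw [← this] }
  let lam : P →* E := MonoidHom.mk' (fun w => (Λ w.1 (1, false)).1) fun a b => by
    rw [coe_mul, map_mul, Equiv.Perm.mul_apply, (ev b b.2).1, (ev a a.2).1, mul_one]
  have hl : ∀ w : P, π (lam w) = ρ w := fun w => (ev w w.2).2
  have mem : ∀ w, ρ w ∈ Om → w ∈ P := fun w hw => by
    obtain ⟨a, ⟨h, -⟩ | ⟨-, h⟩⟩ := inv w
    · show (Λ w (1, false)).2 = false
      rw [h]
    · exact absurd ((Om.mul_mem_cancel_right hw).1 (h ▸ hr ▸ ⟨a, rfl⟩)) (refl_notMem (S_aN 0))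
  have su : ∀ g ∈ Om, ∃ k ∈ lam.range, π k = g := fun g hg => by
    obtain ⟨w, rfl⟩ : g ∈ ρ.range := by rw [sg_gen (N := ρ.range) fun i => ⟨_, hρ i⟩]; trivial
    exact ⟨_, ⟨⟨w, mem w hg⟩, rfl⟩, hl _⟩
  refine ⟨lam.range, fun k hk1 hk2 => ?_, su⟩
  have pr : ∀ l : List (Fin 8), ρ (l.map E₈.simple).prod = (l.map sg).prod := fun l => by
    rw [map_list_prod, List.map_map]; exact congrArg (fun f => (l.map f).prod) (funext hρ)
  let x : P := ⟨_, mem _ (by rw [pr wr, wr_eq]; exact eich_mem_commutator nd nex _ _)⟩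
  let y : P := ⟨_, mem _ (by rw [pr wt, wt_eq]; exact eich_mem_commutator nd nex _ _)⟩
  have k2 : 2 ≤ Nat.card lam.ker := (one_lt_card_iff_ne_bot _).2 fun h => w0_ne (congrArg Subtype.val
    ((lam.ker_eq_bot_iff.1 h) (a₁ := x * y) (a₂ := y * x) (by
      rw [map_mul, map_mul]
      exact hc _ _ ((hl x).trans ((pr wr).trans wr_eq)) ((hl y).trans ((pr wt).trans wt_eq)))))
  have i2 : 2 ≤ P.index := by
    have : P.index ≠ 1 := fun h => by
      have : E₈.simple 0 ∈ P := by rw [index_eq_one.1 h]; trivial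
      change (Λ _ (1, false)).2 = false at this
      rw [hΛ] at this; cases this
    have := P.index_ne_zero_of_finite
    omega
  have c1 := P.card_mul_index
  have c2 := lam.ker.card_mul_index
  rw [index_ker] at c2
  rw [card_E8, ← c2] at c1
  have c3 : Nat.card lam.range ≤ Nat.card Om := by
    have := Nat.mul_le_mul (Nat.mul_le_mul k2 (le_refl (Nat.card lam.range))) i2
    rw [card_Om]; omega
  let f : lam.range →* Om := (π.comp lam.range.subtype).codRestrict _ fun k => hr ▸ ⟨k.1, rfl⟩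
  have fb := (show Function.Surjective f from fun g => by
    obtain ⟨k, h1, h2⟩ := su g g.2
    exact ⟨⟨k, h1⟩, Subtype.ext h2⟩).bijective_of_nat_card_le c3
  exact congrArg Subtype.val (fb.1 (a₁ := ⟨k, hk1⟩) (a₂ := 1) (by rw [map_one]; exact Subtype.ext hk2))

end Cfsg.Agent.Co1A
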