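import Cfsg.Agent.Co1T.D2

/-! Rigidity of the sextet involution and a vanishing first cohomology group (helper23). -/

set_option autoImplicit false
set_option maxRecDepth 100000
set_option exponentiation.threshold 100000

namespace Cfsg.Agent.Co1T.D

open Equiv Subgroup Cfsg.Agent.Spor Cfsg.Agent.Leech Cfsg.Agent.Golay Cfsg.Agent.Mon
open scoped Pointwise

theorem X1_sq : X1 * X1 = 1 := by
  have := evC_eq (u := [27, 27]) (v := []) (by decide +kernel)
  rwa [ev_two, gC, Dce.gD_t] at this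

theorem X1_comm {x : ℕ} (hx : x ≠ 27) (h : Nat.beq (evC [x, 27]) (evC [27, x]) = true) :
    X1 * (yK x).1 = (yK x).1 * X1 := by
  have := evC_eq h
  rwa [ev_two, ev_two, gC, Dce.gD_t, Dce.gD_k hx] at this

theorem even_sg {s i k : ℕ} (hs : EG.ofMask s ∈ GSupp) (hi : i < 24) (hk : k < 24)
    (h : Nat.beq (actV cX (actV (sgC s) (actV cX (e8C i)))) (e8C k) = true) : X1 * sg _ hs * X1 ∈ NN := by
  have h1 := PV_e8 (EG.dec i)
  have h2 := PV_e8 (EG.dec k)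
  rw [EG.enc_dec _ hi] at h1
  rw [EG.enc_dec _ hk, ← Nat.eq_of_beq_eq_true h] at h2
  exact mem_NN_of_cross (Or.inl (by
    rw [mul_smul, mul_smul]; exact (isActV rX (isActV (RC_sgC hs) (isActV rX h1))).func h2))

theorem SG_H0 {a : CG} (h : a ∈ SG) : mk1 a ∈ H0 := V0_le_H0 (mk1_mem_V0.2 h)

theorem rigid {G : Type*} [Group G] {ψ : NN →* G} {φ : H0 →* G} (hφ : Function.Injective φ)
    (hC : centralizer {φ ⟨z0, z0_mem⟩} = φ.range) (h : ∀ (b : NN) (hb : mk1 b ∈ H0), φ ⟨mk1 b, hb⟩ = ψ b)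
    (ct : centralizer ({t0} : Set CC) ≤ N0) : Commute (ψ (yK 16)) (φ ⟨T, T_mem⟩) := by
  have hT := X1_comm (x := 16) (by decide) (by decide +kernel)
  have hd : yK 16 * yK 25 = yK 25 * yK 16 := by
    rw [← ev_two, ← ev_two]; exact paK.eq (by decide +kernel)
  have hS : (yK 25).1 ∈ SG := ⟨_, gE_mem 25, yK_sg _ (by decide +kernel)⟩
  have h3 := evC_eq (u := [25, 27, 25, 27, 25, 27]) (v := []) (by decide +kernel)
  simp only [ev_cons, ev_nil, gC, Dce.gD_t, Dce.gD_k (show 25 ≠ 27 by decide), one_mul] at h3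
  generalize yK 16 = m at hT hd ⊢
  generalize yK 25 = d at hd hS h3
  have cT : ∀ {a b : NN}, a.1 ∈ SG → X1 * a = b * X1 → mk1 b ∈ H0 ∧ φ ⟨T, T_mem⟩ * ψ a = ψ b * φ ⟨T, T_mem⟩ :=
    fun {a b} ha e => by
      have e' : T * mk1 a = mk1 b * T := by rw [T, ← map_mul, e, map_mul]
      have hb : mk1 b ∈ H0 := by
        rw [← mul_inv_eq_iff_eq_mul] at e'; exact e' ▸ H0.mul_mem (H0.mul_mem T_mem (SG_H0 ha)) (H0.inv_mem T_mem)
      exact ⟨hb, by rw [← h a (SG_H0 ha), ← h b hb, ← map_mul, ← map_mul]; exact congrArg φ (Subtype.ext e')⟩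
  have key : ∀ {a b : NN}, a.1 ∈ SG → X1 * a = b * X1 →
      ψ m * φ ⟨T, T_mem⟩ * (ψ m)⁻¹ * ψ a = ψ b * (ψ m * φ ⟨T, T_mem⟩ * (ψ m)⁻¹) := fun {a b} ha e => by
    have := (cT (a := m⁻¹ * a * m⁻¹⁻¹) (b := m⁻¹ * b * m⁻¹⁻¹) (SG_conj (NN.inv_mem m.2) ha) (by
      have h1 : Commute X1 m.1 := hT
      simp only [Subgroup.coe_mul, Subgroup.coe_inv, inv_inv]
      rw [← mul_assoc, ← mul_assoc, h1.inv_right.eq, mul_assoc _ X1, e, mul_assoc, mul_assoc, hT]; group)).2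
    simp only [map_mul, map_inv, inv_inv] at this
    calc _ = ψ m * (φ ⟨T, T_mem⟩ * ((ψ m)⁻¹ * ψ a * ψ m)) * (ψ m)⁻¹ := by group
      _ = _ := by rw [this]; group
  obtain ⟨T', hT'⟩ : ψ m * φ ⟨T, T_mem⟩ * (ψ m)⁻¹ ∈ φ.range := by
    rw [← hC, mem_centralizer_singleton_iff, show φ ⟨z0, z0_mem⟩ = ψ ⟨_, sg_mem oct0_mem.1⟩ from
      h ⟨_, sg_mem oct0_mem.1⟩ z0_mem]
    have := X1_comm (x := 5) (by decide) (by decide +kernel)
    rw [yK5] at this
    exact key (a := ⟨_, sg_mem oct0_mem.1⟩) (b := ⟨_, sg_mem oct0_mem.1⟩) ⟨_, oct0_mem.1, rfl⟩ this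
  rw [← hT'] at key
  have hc : ∀ {s : Finset GolayPt} (hs : s ∈ GSupp), X1 * sg s hs * X1 ∈ NN →
      T⁻¹ * T' * eps s hs = eps s hs * (T⁻¹ * T') := fun {s} hs hb => by
    have e : X1 * (⟨_, sg_mem hs⟩ : NN) = (⟨_, hb⟩ : NN) * X1 := by
      show X1 * sg s hs = X1 * sg s hs * X1 * X1
      rw [mul_assoc _ X1, X1_sq, mul_one]
    have h1 := key ⟨s, hs, rfl⟩ e
    rw [← h ⟨_, sg_mem hs⟩ (SG_H0 ⟨s, hs, rfl⟩), ← h _ (cT ⟨s, hs, rfl⟩ e).1, ← map_mul, ← map_mul] at h1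
    have h2 : T' * eps s hs = mk1 (X1 * sg s hs * X1) * T' := congrArg Subtype.val (hφ h1)
    rw [mul_assoc, h2, map_mul, map_mul, inv_eq_of_mul_eq_one_left T_sq]
    show T * (T * eps s hs * T * T') = _
    rw [← mul_assoc, ← mul_assoc, ← mul_assoc, T_sq, one_mul, mul_assoc]
  obtain ⟨s, hs, σ, e⟩ := mem_N0.1 (ct (mem_centralizer_singleton_iff.2
    (hc dod0_mem.1 (even_sg (i := 0) (k := 3) _ (by decide) (by decide) (by decide +kernel)))))
  obtain rfl : σ = 1 := by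
    have k1 : ∀ i j : GolayPt, (∀ r ∈ [(1405448, 1, 1), (4921504, 0, 0), (18147, 0, 14), (180636, 2, 17), (7438406, 0, 0),
      (663645, 0, 3)], i ∈ EG.ofMask r.1 ↔ j ∈ EG.ofMask r.1) → i = j := by decide +kernel
    have k2 : ∀ r ∈ [(1405448, 1, 1), (4921504, 0, 0), (18147, 0, 14), (180636, 2, 17), (7438406, 0, 0), (663645, 0, 3)],
      r.1 < 2 ^ 24 ∧ isG r.1 = true ∧ Comp.pc24 r.1 = 8 ∧ r.2.1 < 24 ∧ r.2.2 < 24 ∧
        Nat.beq (actV cX (actV (sgC r.1) (actV cX (e8C r.2.1)))) (e8C r.2.2) = true := by decide +kernel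
    refine Subtype.ext (Equiv.ext fun i => k1 _ _ fun r hr => ?_)
    obtain ⟨h1, h2, h4, h5, h6, h7⟩ := k2 r hr
    have h8 := (ofMask_mem_supports_iff h1).2 h2
    have h9 := hc h8 (even_sg h8 h5 h6 h7)
    rw [e, mul_assoc, ← mul_assoc (eps _ h8), V0_comm (eps_mem h8) (eps_mem hs), mul_assoc, mul_right_inj,
      ← mul_inv_eq_iff_eq_mul, eps_conj, eq_comm, eps_eq_iff] at h9
    rcases h9 with h9 | h9
    · conv_lhs => rw [← h9]
      exact Finset.smul_mem_smul_finset_iff σ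
    · have := congrArg Finset.card h9
      rw [Finset.card_smul_finset, Finset.card_compl, card_ofMask24, h4, card_pt] at this
      omega
  rw [map_one, mul_one, inv_mul_eq_iff_eq_mul] at e
  have TT : φ ⟨T, T_mem⟩ * φ ⟨T, T_mem⟩ = 1 := by
    rw [← map_mul, ← φ.map_one]; exact congrArg φ (Subtype.ext T_sq)
  have h4 : (T' : CC) * T' = 1 := congrArg Subtype.val (hφ (show φ (T' * T') = φ 1 by
    rw [map_mul, hT', map_one, conj_mul, TT]; simp))
  have h5 : T * mk1 d * T * mk1 d * T * mk1 d = 1 := by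
    simp only [T, ← map_mul]; exact (congrArg mk1 h3).trans mk1.map_one
  have h6 : T' * mk1 d * T' * mk1 d * T' * mk1 d = 1 := by
    have k1 : φ ⟨T, T_mem⟩ * ψ d * φ ⟨T, T_mem⟩ * ψ d * φ ⟨T, T_mem⟩ * ψ d = 1 := by
      rw [← h d (SG_H0 hS), ← φ.map_one]
      simp only [← map_mul]
      exact congrArg φ (Subtype.ext h5)
    have k2 : ψ d = ψ m * ψ d * (ψ m)⁻¹ := by rw [← map_mul, hd, map_mul, mul_inv_cancel_right]
    refine congrArg Subtype.val (hφ (show φ (T' * ⟨_, SG_H0 hS⟩ * T' * ⟨_, SG_H0 hS⟩ * T' * ⟨_, SG_H0 hS⟩) = φ 1 from ?_))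
    simp only [map_mul]
    rw [h d, hT', k2, conj_mul, conj_mul, conj_mul, conj_mul, conj_mul, k1]; simp
  have c1 : Commute (eps s hs) (mk1 d) := V0_comm (eps_mem hs) (mk1_mem_V0.2 hS)
  rw [e] at h4 h6
  have c2 : Commute (eps s hs) T := by
    have := eq_inv_of_mul_eq_one_left h4
    rw [mul_inv_rev, inv_eq_of_mul_eq_one_left T_sq, inv_eq_of_mul_eq_one_left (eps_sq hs)] at this
    exact this.symm
  have c3 := eps_sq hs
  generalize eps s hs = c at *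
  have e4 : (T * mk1 d * c) ^ 3 = 1 := by
    rw [mul_assoc, ← c1.eq, ← h6]; simp only [pow_succ, pow_zero, one_mul, mul_assoc]
  rw [(c2.mul_right c1).symm.mul_pow, show (T * mk1 d) ^ 3 = 1 by
    rw [← h5]; simp only [pow_succ, pow_zero, one_mul, mul_assoc], one_mul, pow_succ, pow_two, c3, one_mul] at e4
  rw [e4, mul_one] at e
  rw [show T' = ⟨T, T_mem⟩ from Subtype.ext e, eq_comm, mul_inv_eq_iff_eq_mul] at hT'
  exact hT'

theorem odd_conj {x y : CC} (hy : y ∈ N0) (h : y * x⁻¹ ∈ V0) (n : ℕ) :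
    y ^ n * (x ^ n)⁻¹ ∈ V0 ∧ ∃ t ∈ V0, y * t * y⁻¹ * (y * x⁻¹) ^ n = t * (y ^ n * (x ^ n)⁻¹) := by
  induction n with
  | zero => exact ⟨by simp, 1, V0.one_mem, by simp⟩
  | succ n ih =>
    obtain ⟨h1, t, h2, h3⟩ := ih
    have e : y ^ (n + 1) * (x ^ (n + 1))⁻¹ = y * (y ^ n * (x ^ n)⁻¹) * y⁻¹ * (y * x⁻¹) := by group
    have h4 := V0_conj hy h1
    rw [e]
    generalize y ^ n * (x ^ n)⁻¹ = c at *
    refine ⟨V0.mul_mem h4 h, t * c, V0.mul_mem h2 h1, ?_⟩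
    calc _ = y * t * y⁻¹ * (y * c * y⁻¹ * (y * x⁻¹) ^ n) * (y * x⁻¹) := by rw [pow_succ]; simp only [mul_assoc, inv_mul_cancel_left]
      _ = _ := by rw [← V0_comm (V0.pow_mem h n) h4, ← mul_assoc (y * t * y⁻¹), h3, mul_assoc (t * c)]

noncomputable def cO (x : ℕ) : ℕ := iteB (Nat.beq x 0) 592785719436564012637853041267065953 140826256648773851492987242499586050

theorem cO_in (x : ℕ) : inM24 (cO x) = true := by
  rw [cO, Dce.iteB_eq]; split_ifs <;> decide +kernel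

/-- Generators of the octad group. -/
noncomputable def gO (x : ℕ) : MG := mel (cO x)

theorem gO_rep (x : ℕ) : RM (cO x) (gO x) := mel_rep (cO_in x)

noncomputable def evM (w : List ℕ) : ℕ := List.rec one24 (fun x _ ih => seqL ih fun a => mul24 a (cO x)) w

theorem evM_RM (w : List ℕ) : RM (evM w) (ev gO w) := by
  induction w with
  | nil => exact grpM.one
  | cons x w ih =>
    rw [show evM (x :: w) = mul24 (evM w) (cO x) from seqL_eq (evM w) fun a => mul24 a (cO x)]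
    exact grpM.mul ih (gO_rep x)

noncomputable def runC (s : ℕ) (w : List ℕ) : ℕ :=
  List.rec 0 (fun x _ ih => seqL ih fun r => iteB (Nat.beq x 0) (img24 718707706802672365964866014147548163 r)
    (Nat.xor (img24 228770779656694913961849924837147073 r) s)) w

def rlO : List (List ℕ) := [[1, 1, 1, 1], [0, 0, 1, 0, 0, 1, 0, 0, 1, 0, 0, 1, 0, 0, 1],
  [0, 1, 1, 1, 0, 1, 1, 1, 0, 1, 1, 1, 0, 1, 1, 1], [0, 0, 0, 0, 0, 1, 0, 1, 0, 0, 0, 0, 0, 1, 0, 1],
  [0, 0, 1, 0, 1, 0, 0, 1, 0, 1, 0, 0, 1, 0, 1, 0, 0, 1, 0, 1],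
  [0, 1, 0, 1, 0, 1, 0, 1, 0, 1, 0, 1, 0, 1, 0, 1, 0, 1, 0, 1, 0, 1, 0, 1, 0, 1, 0, 1]]

noncomputable def triv (r : ℕ) : Bool := iteB (Nat.beq r 0) true (Nat.beq r 16777215)

theorem triv_iff {r : ℕ} (h : r < 2 ^ 24) {hr : EG.ofMask r ∈ GSupp} : eps _ hr = 1 ↔ triv r = true := by
  rw [eps_eq_one, ← EG.ofMask_full, ← EG.ofMask_zero, triv, Dce.iteB_eq]
  refine ⟨fun e => ?_, fun e => ?_⟩
  · rcases e with e | e <;> rw [EG.ofMask_inj h (by decide) e] <;> rfl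
  · split_ifs at e with e'
    exacts [Or.inl (congrArg _ (Nat.eq_of_beq_eq_true e')), Or.inr (congrArg _ (Nat.eq_of_beq_eq_true e))]

theorem coc : allN 4096 (fun n => seqL (gE n) fun s => iteB (allL rlO fun w => seqL (runC s w) triv) (triv s) true) = true := by
  decide +kernel

theorem runC_spec {β : ℕ → CC} {s : ℕ} (hs : s < 2 ^ 24) (h : EG.ofMask s ∈ GSupp) (h0 : β 0 = pm1 (gO 0))
    (h1 : β 1 = pm1 (gO 1) * eps _ h) {w : List ℕ} (hw : ∀ x ∈ w, x < 2) :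
    runC s w < 2 ^ 24 ∧ ∃ k : EG.ofMask (runC s w) ∈ GSupp, ev β w = pm1 (ev gO w) * eps _ k := by
  induction w with
  | nil => exact ⟨Nat.two_pow_pos _, EG.ofMask_zero ▸ empty_mem_supp, by
      rw [ev_nil, ev_nil, map_one, one_mul]; exact (eps_eq_one.2 (Or.inl EG.ofMask_zero)).symm⟩
  | cons x w ih =>
    obtain ⟨i1, i2, i3⟩ := ih fun z hz => hw z (List.mem_cons_of_mem _ hz)
    have e : runC s (x :: w) = iteB (Nat.beq x 0) (img24 718707706802672365964866014147548163 (runC s w))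
      (Nat.xor (img24 228770779656694913961849924837147073 (runC s w)) s) := seqL_eq (runC s w) fun r =>
        iteB (Nat.beq x 0) (img24 718707706802672365964866014147548163 r)
          (Nat.xor (img24 228770779656694913961849924837147073 r) s)
    have k : ∀ {x c}, Nat.beq (inv24 (cO x)) c = true → img24 c (runC s w) < 2 ^ 24 ∧
        ∃ k : EG.ofMask (img24 c (runC s w)) ∈ GSupp, ev β w * pm1 (gO x) = pm1 (ev gO w * gO x) * eps _ k := fun {x c} e => by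
      have r := Nat.eq_of_beq_eq_true e ▸ grpM.inv (gO_rep x)
      have r1 := r.smul_ofMask (runC s w)
      refine ⟨r.imgP_lt _, r1 ▸ smul_mem_supports (gO x)⁻¹.2 i2, ?_⟩
      rw [← (eps_conj (gO x)⁻¹ i2).trans (eps_congr r1), i3, map_mul, map_inv]; group
    rw [e, ev_cons, ev_cons]
    have hx := hw x List.mem_cons_self
    interval_cases x
    · rw [h0]; exact k (by decide +kernel)
    · obtain ⟨k1, k2, k3⟩ := k (x := 1) (c := 228770779656694913961849924837147073) (by decide +kernel)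
      have k4 := EG.ofMask_xor (img24 228770779656694913961849924837147073 (runC s w)) s
      refine ⟨Nat.xor_lt_two_pow k1 hs, k4 ▸ symmDiff_mem_supp k2 h, ?_⟩
      rw [h1, ← mul_assoc, k3, mul_assoc, eps_mul]
      exact congrArg _ (eps_congr k4.symm)

theorem classify {α : ℕ → CC} (h : ∀ x, α x * (pm1 (gO x))⁻¹ ∈ V0) (hr : ∀ w, ev gO w = 1 → ev α w = 1) :
    ∃ t ∈ V0, ∀ x < 2, t⁻¹ * α x * t = pm1 (gO x) := by
  have e0 : ∀ {M : Type} [Group M] (g : ℕ → M), ev g (List.replicate 15 0) = g 0 ^ 15 := fun g => by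
    simp [pow_succ, mul_assoc]
  have hw : ∀ w ∈ List.replicate 15 0 :: rlO, ev gO w = 1 := fun w hw =>
    (evM_RM w).unique ((show evM w = one24 by revert w; decide +kernel) ▸ grpM.one)
  have e1 := hw _ List.mem_cons_self
  have e2 := hr _ e1
  rw [e0] at e1 e2
  have hN : ∀ x, α x ∈ N0 := fun x => by simpa using N0.mul_mem (V0_le_N0 (h x)) (pm1_mem (gO x))
  obtain ⟨-, t, ht, e3⟩ := odd_conj (hN 0) (h 0) 15
  rw [e2, ← map_pow, e1, map_one, inv_one, mul_one, mul_one, show 15 = 2 * 7 + 1 from rfl, pow_succ, pow_mul, pow_two,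
    V0_sq (h 0), one_pow, one_mul] at e3
  have e4 : t⁻¹ * α 0 * t = pm1 (gO 0) := by
    conv_lhs => enter [1, 1, 1]; rw [← e3]
    group
  have e5 : (pm1 (gO 1))⁻¹ * (t⁻¹ * α 1 * t) ∈ V0 := by
    have := V0.mul_mem (V0_conj (N0.inv_mem (pm1_mem (gO 1))) (V0.mul_mem (V0.inv_mem ht) (h 1))) ht
    simpa [mul_assoc] using this
  obtain ⟨c, hc, e6⟩ := mem_V0.1 e5
  obtain ⟨s, hs, rfl⟩ := EG.exists_mask c
  obtain ⟨n, hn, rfl⟩ := isG_iff_exists.1 ((ofMask_mem_supports_iff hs).1 hc)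
  have h1 := allN_spec coc n hn
  rw [seqL_eq, Dce.iteB_eq, if_pos, ← triv_iff hs (hr := hc), ← e6, inv_mul_eq_one] at h1
  · refine ⟨t, ht, fun x hx => ?_⟩
    interval_cases x
    exacts [e4, h1.symm]
  refine (Comp.allL_iff (l := rlO) (f := fun w => seqL (runC (gE n) w) triv)).2 fun w hw' => ?_
  obtain ⟨k1, k2, k3⟩ := runC_spec (β := fun x => MulAut.conj t⁻¹ (α x)) hs hc (by simpa using e4)
    (by rw [← e6]; simp) (w := w) (by revert w; decide)
  have := hw w (List.mem_cons_of_mem _ hw')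
  rw [← map_ev (MulAut.conj t⁻¹), hr w this, this, map_one, map_one, one_mul] at k3
  rw [seqL_eq, ← triv_iff k1 (hr := k2), ← k3]

end Cfsg.Agent.Co1T.D
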